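import Cfsg.Agent.Lib.Spectrum.EightEven.Bound

/-!
Factors of minimal polynomials of isometries in dimension eight, odd characteristic.
-/

set_option autoImplicit false
set_option linter.unusedSectionVars false
set_option linter.style.haveILetI false

open Polynomial

namespace CfsgLib.Spectrum.NineOdd

open CfsgLib.Spectrum.EightEven (IsFactor recip recip_eq recip_recip recip_natDegree isFactor_X_sub_one
  eq_X_sub_one_of_root recip_ne_X_sub_one dvd_X_pow_sub_one_of_pair)

/-- Exponents of semisimple elements of dimension `2 * c` built from several classes. -/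
def expList (q : ℕ) : ℕ → List ℕ
  | 0 => [1]
  | 1 => [q - 1, q + 1]
  | 2 => [q ^ 2 - 1, q ^ 2 + 1]
  | 3 => [Nat.lcm (q ^ 2 + 1) (q + 1), Nat.lcm (q ^ 2 + 1) (q - 1), q ^ 2 - 1]
  | _ => [Nat.lcm (q ^ 2 + 1) (q ^ 2 - 1), Nat.lcm (q ^ 3 + 1) (q - 1), Nat.lcm (q ^ 3 - 1) (q + 1)]

theorem exists_mem_expList_add {q c d M T : ℕ} (hd : 1 ≤ d) (hd4 : d ≤ 3) (hcd : c + d ≤ 4)
    (h3 : c = 0 → d ≠ 3) (hM : M ∈ expList q c ∨ (c = 3 ∧ (M = q ^ 3 - 1 ∨ M = q ^ 3 + 1)))
    (hT : T = q ^ d - 1 ∨ T = q ^ d + 1) :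
    ∃ M' ∈ expList q (c + d), M ∣ M' ∧ T ∣ M' := by
  have em : q - 1 ∣ q ^ 2 - 1 := by
    simpa using Nat.sub_dvd_pow_sub_pow q 1 2
  have ep : q + 1 ∣ q ^ 2 - 1 := by
    rw [show q ^ 2 - 1 = (q + 1) * (q - 1) by simpa using Nat.sq_sub_sq q 1]
    exact dvd_mul_right _ _
  have m3 : q - 1 ∣ q ^ 3 - 1 := by simpa using Nat.sub_dvd_pow_sub_pow q 1 3
  have p3 : q + 1 ∣ q ^ 3 + 1 := by simpa using Odd.nat_add_dvd_pow_add_pow q 1 (show Odd 3 by decide)
  have A := fun x y : ℕ => Nat.dvd_lcm_left x y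
  have B := fun x y : ℕ => Nat.dvd_lcm_right x y
  have h4m : q - 1 ∣ Nat.lcm (q ^ 2 + 1) (q ^ 2 - 1) := em.trans (B _ _)
  have h4p : q + 1 ∣ Nat.lcm (q ^ 2 + 1) (q ^ 2 - 1) := ep.trans (B _ _)
  rcases c with _ | _ | _ | _ | c
  · rcases hM with hM | ⟨h, -⟩
    swap; · omega
    simp only [expList, List.mem_cons, List.not_mem_nil, or_false] at hM
    subst hM
    rcases (show d = 1 ∨ d = 2 by have := h3 rfl; omega) with rfl | rfl <;>
      exact ⟨T, by rcases hT with rfl | rfl <;> simp [expList], one_dvd _, dvd_rfl⟩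
  · rcases hM with hM | ⟨h, -⟩
    swap; · omega
    simp only [expList, List.mem_cons, List.not_mem_nil, or_false] at hM
    rcases (show d = 1 ∨ d = 2 ∨ d = 3 by omega) with rfl | rfl | rfl
    · rw [pow_one] at hT
      refine ⟨q ^ 2 - 1, by simp [expList], ?_, ?_⟩
      · rcases hM with rfl | rfl <;> assumption
      · rcases hT with rfl | rfl <;> assumption
    · rcases hT with rfl | rfl
      · refine ⟨q ^ 2 - 1, by simp [expList], ?_, dvd_rfl⟩
        rcases hM with rfl | rfl <;> assumption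
      · rcases hM with rfl | rfl
        · exact ⟨_, by simp [expList], B (q ^ 2 + 1) (q - 1), A _ _⟩
        · exact ⟨_, by simp [expList], B (q ^ 2 + 1) (q + 1), A _ _⟩
    · rcases hT with rfl | rfl
      · refine ⟨Nat.lcm (q ^ 3 - 1) (q + 1), by simp [expList], ?_, A _ _⟩
        rcases hM with rfl | rfl
        · exact m3.trans (A _ _)
        · exact B _ _
      · refine ⟨Nat.lcm (q ^ 3 + 1) (q - 1), by simp [expList], ?_, A _ _⟩
        rcases hM with rfl | rfl
        · exact B _ _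
        · exact p3.trans (A _ _)
  · rcases hM with hM | ⟨h, -⟩
    swap; · omega
    simp only [expList, List.mem_cons, List.not_mem_nil, or_false] at hM
    rcases (show d = 1 ∨ d = 2 by omega) with rfl | rfl
    · rw [pow_one] at hT
      rcases hM with rfl | rfl
      · refine ⟨q ^ 2 - 1, by simp [expList], dvd_rfl, ?_⟩
        rcases hT with rfl | rfl <;> assumption
      · rcases hT with rfl | rfl
        · exact ⟨_, by simp [expList], A (q ^ 2 + 1) (q - 1), B _ _⟩
        · exact ⟨_, by simp [expList], A (q ^ 2 + 1) (q + 1), B _ _⟩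
    · refine ⟨Nat.lcm (q ^ 2 + 1) (q ^ 2 - 1), by simp [expList], ?_, ?_⟩
      · rcases hM with rfl | rfl
        exacts [B _ _, A _ _]
      · rcases hT with rfl | rfl
        exacts [B _ _, A _ _]
  · obtain rfl : d = 1 := by omega
    rw [pow_one] at hT
    rcases hM with hM | ⟨-, rfl | rfl⟩
    · refine ⟨Nat.lcm (q ^ 2 + 1) (q ^ 2 - 1), by simp [expList], ?_, ?_⟩
      · simp only [expList, List.mem_cons, List.not_mem_nil, or_false] at hM
        rcases hM with rfl | rfl | rfl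
        exacts [Nat.lcm_dvd (A _ _) h4p, Nat.lcm_dvd (A _ _) h4m, B _ _]
      · rcases hT with rfl | rfl <;> assumption
    · refine ⟨Nat.lcm (q ^ 3 - 1) (q + 1), by simp [expList], A _ _, ?_⟩
      rcases hT with rfl | rfl
      exacts [m3.trans (A _ _), B _ _]
    · refine ⟨Nat.lcm (q ^ 3 + 1) (q - 1), by simp [expList], A _ _, ?_⟩
      rcases hT with rfl | rfl
      exacts [B _ _, p3.trans (A _ _)]
  · omega

section poly

variable {F : Type*} [Field F]

theorem isFactor_X_add_one : IsFactor (X + 1 : F[X]) := by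
  have h : (X + 1 : F[X]) = X - C (-1) := by simp
  exact ⟨by rw [h]; exact monic_X_sub_C _, by rw [h]; exact irreducible_X_sub_C _, by simp⟩

theorem eq_X_add_one_of_root {f : F[X]} (h : IsFactor f) [Fact (Irreducible f)]
    (hr : AdjoinRoot.root f = -1) : f = X + 1 := by
  refine eq_of_monic_of_associated h.1 isFactor_X_add_one.1
    (h.2.1.associated_of_dvd isFactor_X_add_one.2.1 ?_)
  rw [← AdjoinRoot.mk_eq_zero, map_add, AdjoinRoot.mk_X, map_one, hr, neg_add_cancel]

theorem recip_ne_X_add_one {f : F[X]} (h : IsFactor f) (hne : f ≠ X + 1) : recip f ≠ X + 1 := by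
  intro he
  haveI := Fact.mk h.2.1
  refine hne (eq_X_add_one_of_root h ?_)
  have := minpoly.aeval F (AdjoinRoot.root f)⁻¹
  rw [← recip_eq, he, map_add, aeval_X, map_one, add_eq_zero_iff_eq_neg] at this
  rw [← inv_inv (AdjoinRoot.root f), this, inv_neg, inv_one]

variable [Fintype F]

theorem dvd_X_pow_add_one_of_self {f : F[X]} (h : IsFactor f) (hne : f ≠ X - 1) (hne' : f ≠ X + 1)
    (hself : recip f = f) :
    ∃ j, 1 ≤ j ∧ f.natDegree = 2 * j ∧ f ∣ X ^ (Fintype.card F ^ j + 1) - 1 := by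
  haveI := Fact.mk h.2.1
  haveI : Module.Finite F (AdjoinRoot f) := (AdjoinRoot.powerBasis h.1.ne_zero).finite
  haveI : Finite (AdjoinRoot f) := Module.finite_of_finite F
  have hroot : aeval (AdjoinRoot.root f)⁻¹ f = 0 := by
    have := minpoly.aeval F (AdjoinRoot.root f)⁻¹
    rwa [← recip_eq, hself] at this
  let τ : AdjoinRoot f →ₐ[F] AdjoinRoot f :=
    AdjoinRoot.liftAlgHom _ (Algebra.ofId F (AdjoinRoot f)) (AdjoinRoot.root f)⁻¹
      (by simpa [aeval_def, Algebra.toRingHom_ofId] using hroot)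
  have hτ : τ (AdjoinRoot.root f) = (AdjoinRoot.root f)⁻¹ := AdjoinRoot.liftAlgHom_root ..
  obtain ⟨⟨j, hj⟩, hτj⟩ := (FiniteField.bijective_frobeniusAlgHom_pow F (AdjoinRoot f)).2 τ
  have hfr : Module.finrank F (AdjoinRoot f) = f.natDegree := by
    rw [(AdjoinRoot.powerBasis h.1.ne_zero).finrank, AdjoinRoot.powerBasis_dim]
  have hjα : AdjoinRoot.root f ^ (Fintype.card F ^ j) = (AdjoinRoot.root f)⁻¹ := by
    rw [← hτ, ← hτj]
    simp only [AlgHom.coe_pow, FiniteField.coe_frobeniusAlgHom, pow_iterate]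
  have hj1 : 1 ≤ j := by
    by_contra hcon
    obtain rfl : j = 0 := by omega
    rw [pow_zero, pow_one] at hjα
    have h2 : AdjoinRoot.root f * AdjoinRoot.root f = 1 := by
      nth_rewrite 2 [hjα]
      exact mul_inv_cancel₀ h.root_ne_zero
    rcases mul_self_eq_one_iff.1 h2 with h3 | h3
    · exact hne (eq_X_sub_one_of_root h h3)
    · exact hne' (eq_X_add_one_of_root h h3)
  have hper : (FiniteField.frobeniusAlgHom F (AdjoinRoot f)) ^ (j + j) = 1 := by
    refine AdjoinRoot.algHom_ext ?_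
    rw [AlgHom.coe_pow, FiniteField.coe_frobeniusAlgHom, pow_iterate, pow_add]
    show AdjoinRoot.root f ^ (Fintype.card F ^ j * Fintype.card F ^ j) = AdjoinRoot.root f
    rw [pow_mul, hjα, inv_pow, hjα, inv_inv]
  have hdvd : f.natDegree ∣ j + j := by
    rw [← hfr, ← FiniteField.orderOf_frobeniusAlgHom F (AdjoinRoot f)]
    exact orderOf_dvd_of_pow_eq_one hper
  have hdj : f.natDegree = 2 * j := by
    obtain ⟨c, hc⟩ := hdvd
    rcases c with _ | _ | c
    · omega
    · omega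
    · have : j < f.natDegree := hfr ▸ hj
      exfalso; nlinarith
  refine ⟨j, hj1, hdj, ?_⟩
  rw [← AdjoinRoot.mk_eq_zero, map_sub, map_pow, AdjoinRoot.mk_X, map_one, pow_succ, hjα,
    inv_mul_cancel₀ h.root_ne_zero, sub_self]

theorem X_pow_sub_one_dvd_of_dvd {M M' : ℕ} (h : M ∣ M') : (X ^ M - 1 : F[X]) ∣ X ^ M' - 1 := by
  obtain ⟨k, rfl⟩ := h
  rw [pow_mul]
  simpa using sub_dvd_pow_sub_pow ((X : F[X]) ^ M) 1 k

open scoped Classical in
/-- A self-reciprocal set of factors without the roots `±1` of total degree at most `8`. -/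
theorem exists_exponent : ∀ (k : ℕ) (S : Finset F[X]), S.card = k →
    (∀ f ∈ S, IsFactor f ∧ f ≠ X - 1 ∧ f ≠ X + 1 ∧ recip f ∈ S) → (∑ f ∈ S, f.natDegree) ≤ 8 →
    ∃ c M, (∑ f ∈ S, f.natDegree) = 2 * c ∧ (∀ f ∈ S, f ∣ X ^ M - 1) ∧
      (M ∈ expList (Fintype.card F) c ∨ ((c = 3 ∨ c = 4) ∧ (M = Fintype.card F ^ c - 1 ∨
        M = Fintype.card F ^ c + 1) ∧ ∃ f, S = {f, recip f})) := by
  intro k
  induction k using Nat.strong_induction_on with
  | _ k ih =>
  intro S hk hS hdeg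
  rcases S.eq_empty_or_nonempty with rfl | ⟨f, hf⟩
  · exact ⟨0, 1, by simp, by simp, Or.inl (by simp [expList])⟩
  obtain ⟨hfac, hne, hne', hrec⟩ := hS f hf
  have hP : ({f, recip f} : Finset F[X]) ⊆ S := by
    intro g hg
    simp only [Finset.mem_insert, Finset.mem_singleton] at hg
    rcases hg with rfl | rfl
    exacts [hf, hrec]
  have hsum := Finset.sum_sdiff (f := fun g : F[X] => g.natDegree) hP
  have hS' : ∀ g ∈ S \ {f, recip f},
      IsFactor g ∧ g ≠ X - 1 ∧ g ≠ X + 1 ∧ recip g ∈ S \ {f, recip f} := by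
    intro g hg
    simp only [Finset.mem_sdiff, Finset.mem_insert, Finset.mem_singleton] at hg ⊢
    obtain ⟨hgS, hgn⟩ := hg
    refine ⟨(hS g hgS).1, (hS g hgS).2.1, (hS g hgS).2.2.1, (hS g hgS).2.2.2, ?_⟩
    rintro (h | h)
    · exact hgn (Or.inr (by rw [← h, recip_recip (hS g hgS).1]))
    · refine hgn (Or.inl ?_)
      rw [← recip_recip (hS g hgS).1, h, recip_recip hfac]
  obtain ⟨c, M, hc, hdvd, hM⟩ := ih (S \ {f, recip f}).card (by
    rw [← hk]
    exact Finset.card_lt_card (Finset.sdiff_ssubset hP ⟨f, by simp⟩)) _ rfl hS' (by omega)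
  obtain ⟨d, T, hd, hdd, hT, hfT, hfT'⟩ : ∃ d T, 1 ≤ d ∧
      (∑ g ∈ ({f, recip f} : Finset F[X]), g.natDegree) = 2 * d ∧
      (T = Fintype.card F ^ d - 1 ∨ T = Fintype.card F ^ d + 1) ∧
      f ∣ X ^ T - 1 ∧ recip f ∣ X ^ T - 1 := by
    by_cases hself : recip f = f
    · obtain ⟨j, hj, hdj, hdiv⟩ := dvd_X_pow_add_one_of_self hfac hne hne' hself
      exact ⟨j, _, hj, by simp [hself, hdj], Or.inr rfl, hdiv, by rw [hself]; exact hdiv⟩
    · refine ⟨f.natDegree, _, hfac.2.1.natDegree_pos, ?_, Or.inl rfl, dvd_X_pow_sub_one_of_pair hfac, ?_⟩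
      · rw [Finset.sum_pair (Ne.symm hself), recip_natDegree hfac, two_mul]
      · have := dvd_X_pow_sub_one_of_pair hfac.recip
        rwa [recip_natDegree hfac] at this
  by_cases hsingle : c = 0 ∧ 3 ≤ d
  · have hS0 : S \ {f, recip f} = ∅ := by
      by_contra hcon
      obtain ⟨g, hg⟩ := Finset.nonempty_iff_ne_empty.2 hcon
      have h1 := Finset.single_le_sum (f := fun g : F[X] => g.natDegree) (fun i _ => Nat.zero_le _) hg
      have h3 : 0 < g.natDegree := (hS' g hg).1.2.1.natDegree_pos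
      omega
    have hSeq : S = {f, recip f} := le_antisymm (Finset.sdiff_eq_empty_iff_subset.1 hS0) hP
    refine ⟨d, T, by omega, fun g hg => ?_, Or.inr ⟨by omega, hT, f, hSeq⟩⟩
    rw [hSeq, Finset.mem_insert, Finset.mem_singleton] at hg
    rcases hg with rfl | rfl
    exacts [hfT, hfT']
  obtain ⟨M', hM', hMM', hTM'⟩ := exists_mem_expList_add (M := M) hd (by omega) (by omega)
    (fun h0 h3 => hsingle ⟨h0, by omega⟩) (by
      rcases hM with h | ⟨h1 | h1, h2, -⟩
      · exact Or.inl h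
      · subst h1; exact Or.inr ⟨rfl, h2⟩
      · omega) hT
  refine ⟨c + d, M', by omega, fun g hg => ?_, Or.inl hM'⟩
  by_cases hgP : g ∈ ({f, recip f} : Finset F[X])
  · simp only [Finset.mem_insert, Finset.mem_singleton] at hgP
    rcases hgP with rfl | rfl
    exacts [hfT.trans (X_pow_sub_one_dvd_of_dvd hTM'), hfT'.trans (X_pow_sub_one_dvd_of_dvd hTM')]
  · exact (hdvd g (Finset.mem_sdiff.2 ⟨hg, hgP⟩)).trans (X_pow_sub_one_dvd_of_dvd hMM')

end poly

end CfsgLib.Spectrum.NineOdd
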