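import Cfsg.Agent.Lib.Spectrum.NineOdd.Pieces
import Cfsg.Agent.Lib.Spectrum.NineOdd.Factors

/-!
The orders of good isometries without fixed points of an eight-dimensional space of plus type are orders in
the extension of `Ω⁻(8, q)` by its module.
-/

set_option autoImplicit false
set_option linter.unusedSectionVars false
set_option linter.style.haveILetI false

namespace CfsgLib.Spectrum.NineOdd

open Module QuadraticMap Polynomial
open CfsgLib.Classical.Quad (NDPolar Orth orth_ext binForm binForm_apply IsAniso refl levelSign)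
open CfsgLib.Spectrum.EightEven (HasExcess IsFactor recip isFactor_X_sub_one recip_recip recip_natDegree
  recip_associated recip_ne_X_sub_one dvd_of_count_le minpoly_dvd_reverse natDegree_minpoly_lt_of_ker
  X_pow_sub_one_dvd_of_dvd)

variable {F : Type*} [Field F] [Fintype F]
variable {V : Type*} [AddCommGroup V] [Module F V] [Finite V] [FiniteDimensional F V]
variable {Q : QuadraticForm F V}

theorem exists_exp (p : ℕ) [Fact p.Prime] (hp2 : p ≠ 2) (d : ℕ) :
    ∃ j, 1 ≤ j ∧ p ^ (j - 1) ≤ 2 * d + 1 ∧ 2 * d + 3 ≤ p ^ j := by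
  classical
  have hp : p.Prime := Fact.out
  have hex : ∃ j, 2 * d + 3 ≤ p ^ j := ⟨2 * d + 3, (Nat.lt_pow_self hp.one_lt).le⟩
  obtain ⟨j, hj, hmin⟩ : ∃ j, 2 * d + 3 ≤ p ^ j ∧ ∀ i < j, ¬ 2 * d + 3 ≤ p ^ i :=
    ⟨Nat.find hex, Nat.find_spec hex, fun i hi => Nat.find_min hex hi⟩
  have hj1 : 1 ≤ j := by
    rcases j with _ | j
    · simp at hj
    · omega
  refine ⟨j, hj1, ?_, hj⟩
  have h1 := hmin (j - 1) (by omega)
  obtain ⟨k, hk⟩ := (hp.odd_of_ne_two hp2).pow (n := j - 1)
  omega

theorem coprime_pow_sub_add (p : ℕ) [Fact p.Prime] [CharP F p] {k : ℕ} (hk : 1 ≤ k) :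
    Nat.Coprime (Fintype.card F ^ k - 1) p ∧ Nat.Coprime (Fintype.card F ^ k + 1) p := by
  obtain ⟨n, -, hn⟩ := FiniteField.card F p
  have hp : p.Prime := Fact.out
  have hdvd : p ∣ Fintype.card F ^ k :=
    dvd_pow (hn ▸ dvd_pow_self p n.ne_zero) (by omega)
  have h1 : 1 ≤ Fintype.card F ^ k := Nat.one_le_pow _ _ Fintype.card_pos
  constructor <;> refine (hp.coprime_iff_not_dvd.2 fun h => hp.ne_one (Nat.dvd_one.1 ?_)).symm
  · have := Nat.dvd_sub hdvd h
    rwa [show Fintype.card F ^ k - (Fintype.card F ^ k - 1) = 1 by omega] at this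
  · exact (Nat.dvd_add_right hdvd).1 h

theorem coprime_lcm {a b p : ℕ} (ha : Nat.Coprime a p) (hb : Nat.Coprime b p) :
    Nat.Coprime (Nat.lcm a b) p :=
  (ha.mul_left hb).coprime_dvd_left (Nat.lcm_dvd_mul a b)

theorem hasBad_torus (h2 : (2 : F) ≠ 0) {c M : ℕ} (hc : 1 ≤ c)
    (hM : M = Fintype.card F ^ c - 1 ∨ M = Fintype.card F ^ c + 1) :
    ∃ s : ℤ, (s = 1 ∨ s = -1) ∧ HasBad F (2 * c) (s * (Fintype.card F : ℤ) ^ c) M := by
  rcases hM with rfl | rfl
  · exact ⟨1, Or.inl rfl, by rw [one_mul]; exact hasBad_split h2 hc⟩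
  · exact ⟨-1, Or.inr rfl, by rw [neg_one_mul]; exact hasBad_nonsplit h2 hc⟩

theorem hasGood_plane_neg (h2 : (2 : F) ≠ 0) :
    ∃ s : ℤ, (s = 1 ∨ s = -1) ∧ HasGood F (2 * 1) (s * (Fintype.card F : ℤ) ^ 1) 2 := by
  obtain ⟨a, b, hab⟩ := exists_aniso' (F := F)
  have hnd : NDPolar (binForm (0 : F) 1) := by
    intro u hu
    have h0 := hu ![1, 0]
    have h1 := hu ![0, 1]
    simp [CfsgLib.Classical.Quad.polar_binForm, h2] at h0 h1
    funext i
    fin_cases i <;> simp [h0, h1]
  obtain ⟨g, hg⟩ : ∃ g, g = refl (binForm (0 : F) 1) ![1, 0] * refl (binForm (0 : F) 1) ![0, 1] := ⟨_, rfl⟩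
  have hv1 : binForm (0 : F) 1 ![1, 0] = 1 := by simp [binForm_apply]
  have hv2 : binForm (0 : F) 1 ![0, 1] = 1 := by simp [binForm_apply]
  have hgood : Good g := by
    classical
    constructor
    · rw [hg, map_mul, CfsgLib.Classical.Quad.detHom_refl (by rw [hv1]; exact one_ne_zero),
        CfsgLib.Classical.Quad.detHom_refl (by rw [hv2]; exact one_ne_zero), neg_mul_neg, one_mul]
    · rw [hg, map_mul, levelSign_refl_eq h2 one_ne_zero (by rw [hv1]; exact one_ne_zero),
        levelSign_refl_eq h2 one_ne_zero (by rw [hv2]; exact one_ne_zero), hv1, hv2, one_mul,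
        if_pos IsSquare.one, neg_mul_neg, one_mul]
  have hneg : ∀ x, g.1 x = -x := fun x => by
    rw [hg, CfsgLib.Classical.Quad.mul_apply, CfsgLib.Classical.Quad.refl_apply,
      CfsgLib.Classical.Quad.refl_apply, hv1, hv2]
    funext i
    fin_cases i <;> simp [CfsgLib.Classical.Quad.polar_binForm, Matrix.vecHead, Matrix.vecTail] <;> ring
  have hord : orderOf g = 2 := by
    refine orderOf_eq_prime (orth_ext fun x => ?_) fun h => ?_
    · rw [pow_two, CfsgLib.Classical.Quad.mul_apply, hneg, hneg, neg_neg]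
      rfl
    · have h' := congrFun (hneg ![1, 0]) 0
      rw [h] at h'
      exact h2 (by simp at h'; linear_combination h')
  rcases excess_cases (binForm (0 : F) 1) hnd (m := 1) (by simp) hab with h | ⟨h, -⟩
  · exact ⟨1, Or.inl rfl, HasGood.mk' (by simp) hnd (by rwa [one_mul]) g hgood hord.symm.dvd⟩
  · exact ⟨-1, Or.inr rfl, HasGood.mk' (by simp) hnd (by rwa [neg_one_mul]) g hgood hord.symm.dvd⟩

/-- The entries containing a unipotent factor. -/
theorem xdiv_mixed (h2 : (2 : F) ≠ 0) (p : ℕ) [Fact p.Prime] [CharP F p] {c j M : ℕ} (hj : 1 ≤ j)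
    (hc : c ≤ 3) (hpj : p ^ (j - 1) ≤ 2 * (2 - min c 2) + 1)
    (hM : M ∈ expList (Fintype.card F) c) : XDiv F (Nat.lcm (Nat.lcm 2 M) (p ^ j)) := by
  have hq := odd_card (F := F) h2
  have heven : ∀ {k : ℕ}, 2 ∣ Fintype.card F ^ k - 1 ∧ 2 ∣ Fintype.card F ^ k + 1 := fun {k} =>
    ⟨even_iff_two_dvd.1 (Nat.Odd.sub_odd hq.pow odd_one), even_iff_two_dvd.1 hq.pow.add_one⟩
  rcases c with _ | _ | _ | _ | c
  · simp only [expList, List.mem_cons, List.not_mem_nil, or_false] at hM
    subst hM
    obtain ⟨s, hs, h⟩ := hasGood_plane_neg (F := F) h2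
    simpa using XDiv.of_unipotent h2 p (c := 1) (d := 2) hs hj hpj rfl h
  · simp only [expList, List.mem_cons, List.not_mem_nil, or_false] at hM
    obtain ⟨s, hs, h⟩ := hasBad_torus h2 (c := 1) le_rfl (M := M) (by simpa using hM)
    have hg := HasBad.prod h2 h h (n := 2 * 2) (e := 1 * (Fintype.card F : ℤ) ^ 2) (by norm_num)
      (by rcases hs with rfl | rfl <;> ring)
    refine (XDiv.of_unipotent h2 p (c := 2) (d := 1) (Or.inl rfl) hj hpj rfl hg).of_dvd ?_
    refine Nat.lcm_dvd ((Nat.lcm_dvd ?_ (Nat.dvd_lcm_left _ _)).trans (Nat.dvd_lcm_left _ _))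
      (Nat.dvd_lcm_right _ _)
    refine Dvd.dvd.trans ?_ (Nat.dvd_lcm_left _ _)
    have hh := @heven 1
    rw [pow_one] at hh
    rcases hM with rfl | rfl
    exacts [hh.1, hh.2]
  all_goals
    have key : ∀ (T₂ T₁ : ℕ), (T₂ = Fintype.card F ^ 2 - 1 ∨ T₂ = Fintype.card F ^ 2 + 1) →
        (T₁ = Fintype.card F ^ 1 - 1 ∨ T₁ = Fintype.card F ^ 1 + 1) →
        XDiv F (Nat.lcm (Nat.lcm T₂ T₁) (p ^ j)) := by
      intro T₂ T₁ h₂ h₁
      obtain ⟨s, hs, hb⟩ := hasBad_torus h2 (c := 2) (by norm_num) h₂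
      obtain ⟨s', hs', hb'⟩ := hasBad_torus h2 (c := 1) le_rfl h₁
      have hg := HasBad.prod h2 hb hb' (n := 2 * 3) (e := (s * s') * (Fintype.card F : ℤ) ^ 3) (by norm_num)
        (by ring)
      exact XDiv.of_unipotent h2 p (c := 3) (d := 0)
        (by rcases hs with rfl | rfl <;> rcases hs' with rfl | rfl <;> simp) hj hpj rfl hg
    have key' : ∀ T₂ T₁ M', (T₂ = Fintype.card F ^ 2 - 1 ∨ T₂ = Fintype.card F ^ 2 + 1) →
        (T₁ = Fintype.card F ^ 1 - 1 ∨ T₁ = Fintype.card F ^ 1 + 1) → M' ∣ Nat.lcm T₂ T₁ →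
        XDiv F (Nat.lcm (Nat.lcm 2 M') (p ^ j)) := by
      intro T₂ T₁ M' h₂ h₁ hdvd
      refine (key T₂ T₁ h₂ h₁).of_dvd (Nat.lcm_dvd ((Nat.lcm_dvd ?_ hdvd).trans (Nat.dvd_lcm_left _ _))
        (Nat.dvd_lcm_right _ _))
      refine Dvd.dvd.trans ?_ (Nat.dvd_lcm_left _ _)
      rcases h₂ with rfl | rfl
      exacts [(@heven 2).1, (@heven 2).2]
  · simp only [expList, List.mem_cons, List.not_mem_nil, or_false] at hM
    exact key' M _ M (by simpa using hM) (Or.inl rfl) (Nat.dvd_lcm_left _ _)
  · simp only [expList, List.mem_cons, List.not_mem_nil, or_false] at hM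
    rcases hM with rfl | rfl | rfl
    · exact key' _ _ _ (Or.inr rfl) (Or.inr rfl) (by simp)
    · exact key' _ _ _ (Or.inr rfl) (Or.inl rfl) (by simp)
    · exact key' _ _ _ (Or.inl rfl) (Or.inl rfl) (Nat.dvd_lcm_left _ _)
  · omega

/-- The semisimple entries. -/
theorem xdiv_semisimple (h2 : (2 : F) ≠ 0) {M : ℕ} (hM : M ∈ expList (Fintype.card F) 4) : XDiv F M := by
  simp only [expList, List.mem_cons, List.not_mem_nil, or_false] at hM
  refine XDiv.of_good ?_
  rcases hM with rfl | rfl | rfl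
  · exact HasBad.prod h2 (hasBad_nonsplit h2 (c := 2) (by norm_num)) (hasBad_split h2 (c := 2) (by norm_num))
      rfl (by ring)
  · have h := HasBad.prod h2 (hasBad_nonsplit h2 (c := 3) (by norm_num)) (hasBad_split h2 (c := 1) le_rfl)
      (e := -((Fintype.card F : ℤ) ^ 4)) rfl (by ring)
    simpa using h
  · have h := HasBad.prod h2 (hasBad_split h2 (c := 3) (by norm_num)) (hasBad_nonsplit h2 (c := 1) le_rfl)
      (e := -((Fintype.card F : ℤ) ^ 4)) rfl (by ring)
    simpa using h

theorem aeval_neg_eigen (g : Module.End F V) {z : V} (hz : g z = -z) (R : F[X]) :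
    aeval g R z = R.eval (-1) • z := by
  induction R using Polynomial.induction_on' with
  | add a b ha hb => simp [ha, hb, add_smul]
  | monomial n c =>
    have hn : ∀ n : ℕ, (g ^ n) z = (-1 : F) ^ n • z := by
      intro n
      induction n with
      | zero => simp
      | succ n ih => rw [pow_succ', Module.End.mul_apply, ih, map_smul, hz, pow_succ]; module
    rw [aeval_monomial, Module.End.mul_apply, hn, Module.algebraMap_end_apply, eval_monomial, smul_smul]

/-- An even multiplicity of the root `-1` forces a smaller minimal polynomial. -/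
theorem natDegree_lt_of_even (B : LinearMap.BilinForm F V) (hB : B.Nondegenerate)
    (hsym : ∀ x y, B x y = B y x) (h2 : (2 : F) ≠ 0) (g : Module.End F V)
    (hgB : ∀ x y, B (g x) (g y) = B x y) {a : ℕ} (ha : Even a) (ha0 : 0 < a) {R : F[X]}
    (hμ : minpoly F g = (X + 1) ^ a * R) (hR : R.eval (-1) ≠ 0) :
    (minpoly F g).natDegree < finrank F V := by
  have hint : IsIntegral F g := Algebra.IsIntegral.isIntegral g
  obtain ⟨N, hN⟩ : ∃ N : Module.End F V, N = g + 1 := ⟨_, rfl⟩
  have hNaeval : aeval g (X + 1 : F[X]) = N := by simp [hN]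
  by_cases hker : 2 ≤ finrank F (LinearMap.ker N)
  · have h := natDegree_minpoly_lt_of_ker (-g) (by
      rw [show (-g - 1 : Module.End F V) = -N by rw [hN]; abel, LinearMap.ker_neg]
      exact hker)
    rwa [minpoly.neg, natDegree_mul', natDegree_pow, natDegree_neg, natDegree_one, mul_zero, zero_add,
      natDegree_comp, natDegree_neg, natDegree_X, mul_one] at h
    simpa [leadingCoeff_comp] using (minpoly.ne_zero hint)
  · exfalso
    have hRne : R ≠ 0 := fun h => hR (by simp [h])
    have hX1 : (X + 1 : F[X]) ≠ 0 := isFactor_X_add_one.1.ne_zero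
    have hne : aeval g ((X + 1) ^ (a - 1) * R) ≠ 0 := by
      intro h
      have hd := natDegree_le_of_dvd (minpoly.dvd F g h) (mul_ne_zero (pow_ne_zero _ hX1) hRne)
      rw [hμ, natDegree_mul (pow_ne_zero _ hX1) hRne, natDegree_mul (pow_ne_zero _ hX1) hRne, natDegree_pow,
        natDegree_pow, show (X + 1 : F[X]).natDegree = 1 by simpa using natDegree_X_add_C (1 : F)] at hd
      omega
    obtain ⟨y, hy⟩ : ∃ y, aeval g ((X + 1) ^ (a - 1) * R) y ≠ 0 := by
      by_contra hcon
      push Not at hcon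
      exact hne (LinearMap.ext hcon)
    obtain ⟨x, hx⟩ : ∃ x, x = aeval g R y := ⟨_, rfl⟩
    obtain ⟨z, hz⟩ : ∃ z, z = (N ^ (a - 1)) x := ⟨_, rfl⟩
    have hz0 : z ≠ 0 := by
      rw [hz, hx, ← hNaeval, ← map_pow, ← Module.End.mul_apply, ← map_mul]
      exact hy
    have hNz : N z = 0 := by
      rw [hz, ← Module.End.mul_apply, ← pow_succ', Nat.sub_add_cancel ha0, hx, ← hNaeval, ← map_pow,
        ← Module.End.mul_apply, ← map_mul, ← hμ, minpoly.aeval, LinearMap.zero_apply]
    have hgz : g z = -z := by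
      rw [hN, LinearMap.add_apply, Module.End.one_apply] at hNz
      exact eq_neg_of_add_eq_zero_left hNz
    have hrange : ∀ v, B z (N v) = 0 := by
      intro v
      have h1 : B z (g v) = -B z v := by
        have := hgB z v
        rw [hgz, map_neg, LinearMap.neg_apply] at this
        linear_combination -this
      rw [hN, LinearMap.add_apply, Module.End.one_apply, map_add, h1, neg_add_cancel]
    have hxrange : ∀ w, N w ≠ x := by
      intro w hw
      have h1 : (N ^ a) w = z := by
        rw [hz, ← hw, ← Module.End.mul_apply, ← pow_succ, Nat.sub_add_cancel ha0]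
      have h2' : aeval g R z = 0 := by
        rw [← h1, ← hNaeval, ← map_pow, ← Module.End.mul_apply, ← map_mul, mul_comm R, ← hμ, minpoly.aeval,
          LinearMap.zero_apply]
      rw [aeval_neg_eigen g hgz] at h2'
      exact hz0 ((smul_eq_zero.1 h2').resolve_left hR)
    have hmove : ∀ (i : ℕ) u v, B ((N ^ i) u) ((g ^ i) v) = B u ((N ^ i) v) := by
      intro i
      induction i with
      | zero => intro u v; simp
      | succ i ih =>
        intro u v
        rw [pow_succ' N i, pow_succ' g i, Module.End.mul_apply, Module.End.mul_apply]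
        have h1 : B (N ((N ^ i) u)) (g ((g ^ i) v)) = B ((N ^ i) u) (N ((g ^ i) v)) := by
          rw [hN, LinearMap.add_apply, LinearMap.add_apply, Module.End.one_apply, Module.End.one_apply,
            map_add, LinearMap.add_apply, map_add, hgB]
          ring
        rw [h1, ← Module.End.mul_apply N, show N * g ^ i = g ^ i * N from
          (hN ▸ ((Commute.refl g).pow_left i).add_right (Commute.one_right _) : Commute (g ^ i) N).symm.eq,
          Module.End.mul_apply, ih, ← Module.End.mul_apply (N ^ i) N, ← pow_succ, pow_succ']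
    have hgi : ∀ i : ℕ, B z ((g ^ i) x) = (-1 : F) ^ i * B z x := by
      intro i
      induction i with
      | zero => simp
      | succ i ih =>
        rw [pow_succ', Module.End.mul_apply]
        have h1 := hgB z ((g ^ i) x)
        rw [hgz, map_neg, LinearMap.neg_apply, ih] at h1
        linear_combination -h1
    have hBzx : B z x = 0 := by
      have h1 := hmove (a - 1) x x
      rw [← hz, hgi, (Nat.Even.sub_odd ha0 ha odd_one).neg_one_pow, hsym x z] at h1
      have : (2 : F) * B z x = 0 := by linear_combination -h1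
      exact (mul_eq_zero.1 this).resolve_left h2
    have hsup : LinearMap.range N ⊔ Submodule.span F {x} = ⊤ := by
      refine Submodule.eq_top_of_finrank_eq ?_
      have h1 := LinearMap.finrank_range_add_finrank_ker N
      have hlt : finrank F (LinearMap.range N) <
          finrank F ↥(LinearMap.range N ⊔ Submodule.span F {x}) := by
        refine Submodule.finrank_lt_finrank_of_lt (lt_of_le_of_ne le_sup_left fun h => ?_)
        have : x ∈ LinearMap.range N := h ▸ Submodule.mem_sup_right (Submodule.mem_span_singleton_self x)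
        obtain ⟨w, hw⟩ := this
        exact hxrange w hw
      have h3 := Submodule.finrank_le (LinearMap.range N ⊔ Submodule.span F {x})
      omega
    refine hz0 (hB.1 z fun v => ?_)
    obtain ⟨u, ⟨w, rfl⟩, u', hu', rfl⟩ := Submodule.mem_sup.1 (hsup ▸ Submodule.mem_top : v ∈ _)
    obtain ⟨r, rfl⟩ := Submodule.mem_span_singleton.1 hu'
    rw [map_add, hrange, map_smul, hBzx, smul_zero, add_zero]

theorem card_dvd_of_semiregular {α : Type*} [Fintype α] [DecidableEq α] (π : Equiv.Perm α) {N : ℕ}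
    (hN : N ≠ 1) (h : ∀ x, ∀ j : ℕ, (π ^ j) x = x ↔ N ∣ j) : N ∣ Fintype.card α := by
  have hall : ∀ m ∈ π.cycleType, m = N := by
    intro m hm
    rw [Equiv.Perm.cycleType_def, Multiset.mem_map] at hm
    obtain ⟨c, hc, rfl⟩ := hm
    rw [Finset.mem_val] at hc
    obtain ⟨hcyc, hagree⟩ := Equiv.Perm.mem_cycleFactorsFinset_iff.1 hc
    obtain ⟨x, hx⟩ := hcyc.nonempty_support
    have hcx : c = π.cycleOf x := Equiv.Perm.cycle_is_cycleOf hx hc
    show c.support.card = N
    rw [← hcyc.orderOf]
    have hiff : ∀ j : ℕ, c ^ j = 1 ↔ N ∣ j := fun j => by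
      rw [hcyc.pow_eq_one_iff' (Equiv.Perm.mem_support.1 hx), hcx,
        Equiv.Perm.cycleOf_pow_apply_self, h x]
    exact Nat.dvd_antisymm (orderOf_dvd_of_pow_eq_one ((hiff N).2 dvd_rfl))
      ((hiff _).1 (pow_orderOf_eq_one c))
  have hsupp : π.support = Finset.univ := by
    refine Finset.eq_univ_iff_forall.2 fun x => Equiv.Perm.mem_support.2 fun hx => hN ?_
    exact Nat.dvd_one.1 ((h x 1).1 (by rwa [pow_one]))
  rw [← Finset.card_univ, ← hsupp, ← Equiv.Perm.sum_cycleType]
  exact Multiset.dvd_sum fun m hm => (hall m hm).symm.dvd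

open scoped _root_.Classical in
/-- An isometry all of whose non-zero vectors have the same period. -/
theorem xdiv_of_semiregular (h2 : (2 : F) ≠ 0) (hdim : finrank F V = 8)
    (he : HasExcess Q ((Fintype.card F : ℤ) ^ 4)) {g : Orth Q} (hg : Good g)
    (hfree : ∀ x ≠ 0, ∀ j : ℕ, (g ^ j).1 x = x → g ^ j = 1) {T : ℕ}
    (hT : T = Fintype.card F ^ 4 - 1 ∨ T = Fintype.card F ^ 4 + 1) (hgT : g ^ T = 1) :
    XDiv F (orderOf g) := by
  obtain ⟨p, hp⟩ := CharP.exists F
  haveI : Fact p.Prime := ⟨CharP.char_is_prime F p⟩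
  obtain ⟨q, hq⟩ : ∃ q, q = Fintype.card F := ⟨_, rfl⟩
  have hqodd : Odd q := hq ▸ odd_card h2
  have hq1 : 1 < q := hq ▸ Fintype.one_lt_card
  rw [← hq] at hT
  obtain ⟨o, ho⟩ : ∃ o, o = orderOf g := ⟨_, rfl⟩
  have hoT : o ∣ T := ho ▸ orderOf_dvd_of_pow_eq_one hgT
  have hA : XDiv F (Nat.lcm (q ^ 2 + 1) (q ^ 2 - 1)) := hq ▸ xdiv_semisimple h2 (by simp [expList])
  obtain ⟨r, hr⟩ : ∃ r, q = 2 * r + 1 := id hqodd
  obtain ⟨A, hAdef⟩ : ∃ A, A = 2 * (r * r + r) := ⟨_, rfl⟩
  have hq2 : q ^ 2 = 2 * A + 1 := by rw [hr, hAdef]; ring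
  have hq4 : q ^ 4 = 4 * A * (A + 1) + 1 := by
    rw [show q ^ 4 = (q ^ 2) ^ 2 by ring, hq2]; ring
  have hlcm : Nat.lcm (q ^ 2 + 1) (q ^ 2 - 1) = 2 * A * (A + 1) := by
    rw [hq2, Nat.add_sub_cancel, show 2 * A + 1 + 1 = 2 * (A + 1) by ring, Nat.lcm_mul_left,
      Nat.Coprime.lcm_eq_mul (Nat.coprime_self_add_left.2 (Nat.coprime_one_left _))]
    ring
  have hcop : Nat.Coprime o q := by
    refine Nat.Coprime.coprime_dvd_left hoT ?_
    have hd : q ∣ q ^ 4 := dvd_pow_self q (by norm_num)
    refine Nat.coprime_of_dvd fun k hk hkT hkq => hk.ne_one (Nat.dvd_one.1 ?_)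
    rcases hT with rfl | rfl
    · have := Nat.dvd_sub (hkq.trans hd) hkT
      rwa [show q ^ 4 - (q ^ 4 - 1) = 1 by have := Nat.one_le_pow 4 q (by omega); omega] at this
    · exact (Nat.dvd_add_right (hkq.trans hd)).1 hkT
  by_cases ho1 : o = 1
  · rw [← ho, ho1]
    exact hA.of_dvd (one_dvd _)
  haveI := Fintype.ofFinite V
  haveI : Fintype (CfsgLib.Classical.Quad.Level Q (1 : F)) := Fintype.ofFinite _
  obtain ⟨π, hπ⟩ : ∃ π, π = CfsgLib.Classical.Quad.levelPerm Q 1 g := ⟨_, rfl⟩
  have hper : ∀ v, ∀ j : ℕ, (π ^ j) v = v ↔ o ∣ j := by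
    intro v j
    have hv0 : (v : V) ≠ 0 := fun h => one_ne_zero (α := F) (by rw [← v.2, h, QuadraticMap.map_zero])
    rw [Subtype.ext_iff, hπ, ← map_pow, ho, orderOf_dvd_iff_pow_eq_one]
    exact ⟨hfree _ hv0 j, fun h => by rw [h]; rfl⟩
  have hL : Fintype.card (CfsgLib.Classical.Quad.Level Q (1 : F)) = q ^ 3 * (q ^ 4 - 1) := by
    have h := level_torus Q (c := 4) (by norm_num) (s := 1) (by rw [hdim]) (by rwa [one_mul])
      (one_ne_zero (α := F))
    rw [← Nat.card_eq_fintype_card, ← Nat.cast_inj (R := ℤ), Nat.cast_mul,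
      Nat.cast_sub (Nat.one_le_pow _ _ (by omega)), hq]
    push_cast
    exact h
  have hdvd : o ∣ q ^ 4 - 1 := by
    have h := card_dvd_of_semiregular π ho1 hper
    rw [hL] at h
    exact (hcop.pow_right 3).dvd_of_dvd_mul_left h
  have h2o : 2 * o ∣ q ^ 4 - 1 := by
    rcases Nat.even_or_odd o with hev | hodd
    · obtain ⟨d, hd, hsgn⟩ := CfsgLib.Spectrum.OrthOddMixed.sign_of_semiregular π hev fun v _ j => hper v j
      have hsupp : π.support = Finset.univ := by
        refine Finset.eq_univ_iff_forall.2 fun v => Equiv.Perm.mem_support.2 fun hv => ho1 ?_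
        exact Nat.dvd_one.1 ((hper v 1).1 (by rwa [pow_one]))
      rw [hsupp, Finset.card_univ, hL] at hd
      have hls : levelSign Q 1 g = Equiv.Perm.sign π := by
        rw [hπ]
        unfold levelSign
        simp only [MonoidHom.coe_comp, Function.comp_apply]
        exact sign_congr _ _ (Equiv.refl _) fun x => rfl
      rw [hg.2, hsgn] at hls
      have hdev : Even d := by
        rcases Nat.even_or_odd d with h | h
        · exact h
        · rw [h.neg_one_pow] at hls
          exact absurd hls (by decide)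
      have h' : 2 * o ∣ q ^ 3 * (q ^ 4 - 1) := by
        rw [hd, mul_comm 2 o]
        exact mul_dvd_mul_left o (even_iff_two_dvd.1 hdev)
      exact ((Nat.Coprime.mul_left (Nat.coprime_two_left.2 hqodd) hcop).pow_right 3).dvd_of_dvd_mul_left h'
    · refine Nat.Coprime.mul_dvd_of_dvd_of_dvd (Nat.coprime_two_left.2 hodd) ?_ hdvd
      rw [hq4, Nat.add_sub_cancel]
      exact ⟨2 * A * (A + 1), by ring⟩
  rw [← ho]
  refine hA.of_dvd (Nat.dvd_of_mul_dvd_mul_left two_pos ?_)
  rw [hlcm]
  rw [hq4, Nat.add_sub_cancel] at h2o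
  rw [show 2 * (2 * A * (A + 1)) = 4 * A * (A + 1) by ring]
  exact h2o

open UniqueFactorizationMonoid in
open scoped _root_.Classical in
/-- Orders of good isometries without fixed points in plus type. -/
theorem xdiv_of_fixed_point_free (h2 : (2 : F) ≠ 0) (hnd : NDPolar Q) (hdim : finrank F V = 8)
    (he : HasExcess Q ((Fintype.card F : ℤ) ^ 4)) {g : Orth Q} (hg : Good g)
    (hfix : ∀ x, g.1 x = x → x = 0) : XDiv F (orderOf g) := by
  obtain ⟨p, hp⟩ := CharP.exists F
  haveI : Fact p.Prime := ⟨CharP.char_is_prime F p⟩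
  have hp2 : p ≠ 2 := fun h => h2 (by subst h; exact_mod_cast CharP.cast_eq_zero F 2)
  haveI : Nontrivial V := Module.nontrivial_of_finrank_pos (R := F) (by omega)
  haveI : Finite (Orth Q) := Finite.of_injective (fun g : Orth Q => (g.1 : V → V))
    fun g h hgh => orth_ext fun x => congrFun hgh x
  obtain ⟨G, hG⟩ : ∃ G, G = endo Q g := ⟨_, rfl⟩
  obtain ⟨B, hBdef⟩ : ∃ B : LinearMap.BilinForm F V, B = polarBilin Q := ⟨_, rfl⟩
  have hB : B.Nondegenerate := hBdef ▸ CfsgLib.Orth.ndPolar_iff.1 hnd
  have hgB : ∀ x y, B (G x) (G y) = B x y := fun x y => by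
    rw [hBdef, hG]; exact CfsgLib.Classical.Quad.orth_polar g x y
  have hsym : ∀ x y, B x y = B y x := fun x y => by rw [hBdef]; exact polar_comm Q x y
  obtain ⟨w, hw, hgw⟩ : ∃ w, 1 ≤ w ∧ G ^ w = 1 :=
    ⟨orderOf g, orderOf_pos g, by rw [hG, ← map_pow, pow_orderOf_eq_one, map_one]⟩
  obtain ⟨μ, hμ⟩ : ∃ μ, μ = minpoly F G := ⟨_, rfl⟩
  have hint : IsIntegral F G := Algebra.IsIntegral.isIntegral G
  have hμm : μ.Monic := hμ ▸ minpoly.monic hint
  have hμ0 : μ ≠ 0 := hμm.ne_zero
  have hμw : μ ∣ X ^ w - 1 := hμ ▸ minpoly.dvd F G (by simp [hgw])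
  have hμdeg : μ.natDegree ≤ 8 := by
    rw [← hdim, ← LinearMap.charpoly_natDegree G, hμ]
    exact natDegree_le_of_dvd G.minpoly_dvd_charpoly G.charpoly_monic.ne_zero
  obtain ⟨Φ, hΦ⟩ : ∃ Φ, Φ = normalizedFactors μ := ⟨_, rfl⟩
  have hmem : ∀ f ∈ Φ, IsFactor f ∧ f ∣ μ := by
    intro f hf
    rw [hΦ] at hf
    have hd := dvd_of_mem_normalizedFactors hf
    have hi := irreducible_of_normalized_factor f hf
    refine ⟨⟨?_, hi, fun h0 => ?_⟩, hd⟩
    · rw [← normalize_normalized_factor f hf]
      exact Polynomial.monic_normalize hi.ne_zero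
    · have h1 : X ∣ X ^ w - (1 : F[X]) := (X_dvd_iff.2 h0).trans (hd.trans hμw)
      rw [X_dvd_iff, coeff_sub, coeff_X_pow, coeff_one_zero, if_neg (by omega)] at h1
      simp at h1
  have hcount : ∀ (R : F[X]), R ≠ 0 → ∀ f : F[X], IsFactor f → ∀ k : ℕ, f ^ k ∣ R →
      k ≤ (normalizedFactors R).count f := by
    intro R hR f hf k hk
    rw [dvd_iff_normalizedFactors_le_normalizedFactors (pow_ne_zero _ hf.1.ne_zero) hR] at hk
    have := Multiset.count_le_of_le f hk
    rwa [normalizedFactors_pow, normalizedFactors_irreducible hf.2.1, hf.1.normalize_eq_self,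
      Multiset.count_nsmul, Multiset.count_singleton_self, mul_one] at this
  have hpow : ∀ f ∈ Φ, f ^ Φ.count f ∣ μ := by
    intro f hf
    rw [dvd_iff_normalizedFactors_le_normalizedFactors (pow_ne_zero _ (hmem f hf).1.1.ne_zero) hμ0,
      normalizedFactors_pow, normalizedFactors_irreducible (hmem f hf).1.2.1,
      (hmem f hf).1.1.normalize_eq_self, ← hΦ, Multiset.nsmul_singleton, Multiset.le_iff_count]
    intro b
    rw [Multiset.count_replicate]
    split_ifs with hb
    · rw [hb]
    · exact Nat.zero_le _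
  have hno1 : (X - 1 : F[X]) ∉ Φ := by
    intro h
    obtain ⟨Z, hZ⟩ := (hmem _ h).2
    have hZ0 : aeval G Z = 0 := by
      refine LinearMap.ext fun x => ?_
      have h' := congrArg (fun P => aeval G P x) hZ
      simp only [map_mul, Module.End.mul_apply, map_sub, aeval_X, map_one, LinearMap.sub_apply,
        Module.End.one_apply] at h'
      rw [hμ, minpoly.aeval, LinearMap.zero_apply] at h'
      rw [LinearMap.zero_apply]
      refine hfix _ ?_
      have h'' := sub_eq_zero.1 h'.symm
      rw [hG, endo_apply] at h''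
      rw [hG]
      exact h''
    have hd := hμ ▸ minpoly.dvd F G hZ0
    have hX0 : (X - 1 : F[X]) ≠ 0 := isFactor_X_sub_one.1.ne_zero
    have hZne : Z ≠ 0 := fun h0 => hμ0 (by rw [hZ, h0, mul_zero])
    have hle := natDegree_le_of_dvd hd hZne
    rw [hZ, natDegree_mul hX0 hZne,
      show (X - 1 : F[X]).natDegree = 1 by simpa using natDegree_X_sub_C (1 : F)] at hle
    omega
  have hrev : Associated μ μ.reverse := by
    refine associated_of_dvd_of_natDegree_le ?_ (by rw [Ne, reverse_eq_zero]; exact hμ0)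
      (reverse_natDegree_le μ)
    rw [hμ]; exact minpoly_dvd_reverse B hB G hgB hw hgw
  have hrecip : ∀ f ∈ Φ, recip f ∈ Φ ∧ Φ.count f ≤ Φ.count (recip f) := by
    intro f hf
    have hfac := (hmem f hf).1
    obtain ⟨R, hR⟩ := hpow f hf
    have h1 : recip f ^ Φ.count f ∣ μ := by
      refine ((recip_associated hfac).pow_pow.dvd).trans (dvd_trans ?_ hrev.symm.dvd)
      conv_rhs => rw [hR, reverse_mul_of_domain]
      refine dvd_trans (dvd_of_eq ?_) (dvd_mul_right _ _)
      induction Φ.count f with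
      | zero => rw [pow_zero, pow_zero, ← C_1, reverse_C]
      | succ n ih => rw [pow_succ, pow_succ, reverse_mul_of_domain, ih]
    have h3 := hcount μ hμ0 _ hfac.recip _ h1
    rw [← hΦ] at h3
    exact ⟨Multiset.count_pos.1 (lt_of_lt_of_le (Multiset.count_pos.2 hf) h3), h3⟩
  have hprod : Φ.prod = μ := by
    refine eq_of_monic_of_associated ?_ hμm (hΦ ▸ prod_normalizedFactors hμ0)
    have := monic_multiset_prod_of_monic Φ (fun f => f) fun f hf => (hmem f hf).1.1
    rwa [Multiset.map_id'] at this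
  have hdegsum : μ.natDegree = ∑ f ∈ Φ.toFinset, Φ.count f * f.natDegree := by
    conv_lhs => rw [← hprod]
    rw [natDegree_multiset_prod_of_monic _ fun f hf => (hmem f hf).1.1,
      Finset.sum_multiset_map_count]
    simp only [smul_eq_mul]
  obtain ⟨a, ha⟩ : ∃ a, a = Φ.count (X + 1) := ⟨_, rfl⟩
  obtain ⟨S, hS⟩ : ∃ S, S = Φ.toFinset.erase (X + 1) := ⟨_, rfl⟩
  have hSmem : ∀ f ∈ S, IsFactor f ∧ f ≠ X - 1 ∧ f ≠ X + 1 ∧ recip f ∈ S := by
    intro f hf
    rw [hS, Finset.mem_erase, Multiset.mem_toFinset] at hf ⊢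
    exact ⟨(hmem f hf.2).1, fun h => hno1 (h ▸ hf.2), hf.1, recip_ne_X_add_one (hmem f hf.2).1 hf.1,
      (hrecip f hf.2).1⟩
  have hd1 : (X + 1 : F[X]).natDegree = 1 := by simpa using natDegree_X_add_C (1 : F)
  have hsplit : μ.natDegree = (∑ f ∈ S, Φ.count f * f.natDegree) + a := by
    by_cases h1 : (X + 1) ∈ Φ.toFinset
    · rw [hdegsum, hS, ← Finset.sum_erase_add _ _ h1, hd1, mul_one, ha]
    · rw [hdegsum, hS, Finset.erase_eq_of_notMem h1, ha,
        Multiset.count_eq_zero.2 (fun h => h1 (Multiset.mem_toFinset.2 h)), add_zero]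
  have hpos : ∀ f ∈ S, 1 ≤ Φ.count f := by
    intro f hf
    rw [hS, Finset.mem_erase, Multiset.mem_toFinset] at hf
    exact Multiset.count_pos.2 hf.2
  have hexp : (∑ f ∈ S, Φ.count f * f.natDegree) =
      (∑ f ∈ S, f.natDegree) + ∑ f ∈ S, (Φ.count f - 1) * f.natDegree := by
    rw [← Finset.sum_add_distrib]
    refine Finset.sum_congr rfl fun f hf => ?_
    obtain ⟨n, hn⟩ : ∃ n, Φ.count f = n + 1 := ⟨Φ.count f - 1, by have := hpos f hf; omega⟩
    rw [hn, Nat.add_sub_cancel]; ring
  obtain ⟨c, M, hc, hdvd, hM⟩ := exists_exponent _ S rfl hSmem (by omega)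
  have hmult : ∀ f ∈ S, 2 * (Φ.count f - 1) ≤ ∑ f ∈ S, (Φ.count f - 1) * f.natDegree := by
    intro f hf
    obtain ⟨hfac, hne, hne', hrS⟩ := hSmem f hf
    by_cases hself : recip f = f
    · obtain ⟨j, hj, hdj, -⟩ := dvd_X_pow_add_one_of_self hfac hne hne' hself
      refine le_trans ?_ (Finset.single_le_sum (fun g _ => Nat.zero_le _) hf)
      rw [hdj, mul_comm (Φ.count f - 1)]
      exact Nat.mul_le_mul_right _ (by omega)
    · refine le_trans ?_ (Finset.sum_le_sum_of_subset (s := {f, recip f}) (fun g hg => by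
        simp only [Finset.mem_insert, Finset.mem_singleton] at hg
        rcases hg with rfl | rfl
        exacts [hf, hrS]))
      rw [Finset.sum_pair (Ne.symm hself), recip_natDegree hfac]
      have h1 := hfac.2.1.natDegree_pos
      have h3 : Φ.count f - 1 ≤ Φ.count (recip f) - 1 := by
        have := (hrecip f (by rw [hS, Finset.mem_erase, Multiset.mem_toFinset] at hf; exact hf.2)).2
        omega
      calc 2 * (Φ.count f - 1) = (Φ.count f - 1) * 1 + (Φ.count f - 1) * 1 := by ring
        _ ≤ _ := add_le_add (Nat.mul_le_mul_left _ h1) (Nat.mul_le_mul h3 h1)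
  -- an even multiplicity of `-1` loses one dimension
  have haev : Even a → 0 < a → μ.natDegree ≤ 7 := by
    intro hev ha0
    have h1 : (X + 1 : F[X]) ∈ Φ := Multiset.count_pos.1 (ha ▸ ha0)
    obtain ⟨R, hR⟩ := hpow _ h1
    rw [← ha, hμ] at hR
    have hR1 : R.eval (-1) ≠ 0 := by
      intro h
      obtain ⟨R', hR'⟩ := dvd_iff_isRoot.2 h
      rw [map_neg, map_one, sub_neg_eq_add] at hR'
      have h3 := hcount μ hμ0 (X + 1) isFactor_X_add_one (a + 1) ⟨R', by
        rw [hμ, hR, hR', pow_succ, mul_assoc]⟩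
      rw [← hΦ, ← ha] at h3
      omega
    have := natDegree_lt_of_even B hB hsym h2 G hgB hev ha0 hR hR1
    rw [← hμ, hdim] at this
    omega
  -- divisibility of the exponent
  have hmain : ∀ (M' e : ℕ), 2 ∣ M' → M ∣ M' → (∀ f ∈ S, Φ.count f ≤ p ^ e) → a ≤ p ^ e →
      orderOf g ∣ M' * p ^ e := by
    intro M' e h2M hMM' hfe hae
    refine orderOf_dvd_of_pow_eq_one (endo_injective ?_)
    rw [map_pow, map_one, ← hG]
    rcases Nat.eq_zero_or_pos M' with rfl | hM'
    · simp
    have hR0 : (X ^ M' - 1 : F[X]) ^ p ^ e ≠ 0 := pow_ne_zero _ (by simpa using X_pow_sub_C_ne_zero hM' (1 : F))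
    have hd : μ ∣ (X ^ M' - 1) ^ p ^ e := by
      refine dvd_of_count_le hμ0 hR0 fun f hf => ?_
      rw [← hΦ] at hf ⊢
      refine hcount _ hR0 f (hmem f hf).1 _ ?_
      by_cases h1 : f = X + 1
      · subst h1
        refine (pow_dvd_pow _ (ha ▸ hae)).trans (pow_dvd_pow_of_dvd ?_ _)
        refine Dvd.dvd.trans ⟨X - 1, by ring⟩ (X_pow_sub_one_dvd_of_dvd h2M)
      · have hfS : f ∈ S := by rw [hS, Finset.mem_erase, Multiset.mem_toFinset]; exact ⟨h1, hf⟩
        exact (pow_dvd_pow _ (hfe f hfS)).trans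
          (pow_dvd_pow_of_dvd ((hdvd f hfS).trans (X_pow_sub_one_dvd_of_dvd hMM')) _)
    rw [sub_pow_char_pow, one_pow, ← pow_mul] at hd
    obtain ⟨Z, hZ⟩ := hd
    have h := congrArg (aeval G) hZ
    rw [map_mul (aeval G) μ, hμ, minpoly.aeval, zero_mul, map_sub, map_pow, aeval_X, map_one, sub_eq_zero] at h
    exact h
  have hqodd := odd_card (F := F) h2
  have heven : ∀ {k : ℕ}, 2 ∣ Fintype.card F ^ k - 1 ∧ 2 ∣ Fintype.card F ^ k + 1 := fun {k} =>
    ⟨even_iff_two_dvd.1 (Nat.Odd.sub_odd hqodd.pow odd_one), even_iff_two_dvd.1 hqodd.pow.add_one⟩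
  rcases hM with hM | ⟨hc34, hM, f, hSeq⟩
  · rcases (show c = 4 ∨ c ≤ 3 by omega) with rfl | hc3
    · have hall : ∀ f ∈ S, Φ.count f ≤ p ^ 0 := fun f hf => by have := hmult f hf; simp; omega
      have h := hmain M 0 ?_ dvd_rfl hall (by omega)
      · rw [pow_zero, mul_one] at h
        exact (xdiv_semisimple h2 hM).of_dvd h
      · simp only [expList, List.mem_cons, List.not_mem_nil, or_false] at hM
        rcases hM with rfl | rfl | rfl
        exacts [(@heven 2).2.trans (Nat.dvd_lcm_left _ _), (@heven 3).2.trans (Nat.dvd_lcm_left _ _),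
          (@heven 3).1.trans (Nat.dvd_lcm_left _ _)]
    · obtain ⟨j, hj, hpj, hjp⟩ := exists_exp p hp2 (2 - min c 2)
      have hbound : (∀ f ∈ S, Φ.count f ≤ p ^ j) ∧ a ≤ p ^ j := by
        refine ⟨fun f hf => ?_, ?_⟩
        · have := hmult f hf
          omega
        · by_contra hcon
          have hev : Even a := by
            rw [Nat.even_iff]
            rcases hc3.lt_or_eq with h | h <;> omega
          have := haev hev (by omega)
          omega
      have h := hmain (Nat.lcm 2 M) j (Nat.dvd_lcm_left _ _) (Nat.dvd_lcm_right _ _) hbound.1 hbound.2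
      refine (xdiv_mixed h2 p hj hc3 hpj hM).of_dvd (h.trans ?_)
      have h2p : Nat.Coprime 2 p := Nat.coprime_two_left.2 ((Fact.out : p.Prime).odd_of_ne_two hp2)
      have hMp : Nat.Coprime M p := by
        have k1 := coprime_pow_sub_add (F := F) p (k := 1) le_rfl
        have k2 := coprime_pow_sub_add (F := F) p (k := 2) (by norm_num)
        rw [pow_one] at k1
        rcases (show c = 0 ∨ c = 1 ∨ c = 2 ∨ c = 3 by omega) with rfl | rfl | rfl | rfl <;>
          simp only [expList, List.mem_cons, List.not_mem_nil, or_false] at hM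
        · subst hM; exact Nat.coprime_one_left _
        · rcases hM with rfl | rfl
          exacts [k1.1, k1.2]
        · rcases hM with rfl | rfl
          exacts [k2.1, k2.2]
        · rcases hM with rfl | rfl | rfl
          exacts [coprime_lcm k2.2 k1.2, coprime_lcm k2.2 k1.1, k2.1]
      rw [((coprime_lcm h2p hMp).pow_right j).lcm_eq_mul]
  · rcases hc34 with rfl | rfl
    · -- one class of dimension six
      have hsum : ∀ f ∈ S, Φ.count f ≤ p ^ 0 := by
        intro g hg
        by_contra hcon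
        have h1 : g.natDegree ≤ ∑ f ∈ S, (Φ.count f - 1) * f.natDegree := by
          refine le_trans ?_ (Finset.single_le_sum (fun i _ => Nat.zero_le _) hg)
          refine Nat.le_mul_of_pos_left _ ?_
          simp at hcon
          omega
        have h3 : 3 ≤ g.natDegree := by
          have hdeg : g.natDegree = f.natDegree := by
            rw [hSeq, Finset.mem_insert, Finset.mem_singleton] at hg
            rcases hg with rfl | rfl
            · rfl
            · have hf : f ∈ S := hSeq ▸ Finset.mem_insert_self _ _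
              exact recip_natDegree (hSmem f hf).1
          have h4 : (∑ f ∈ S, f.natDegree) ≤ 2 * f.natDegree := by
            rw [hSeq]
            by_cases hr : recip f = f
            · simp [hr]; omega
            · rw [Finset.sum_pair (Ne.symm hr)]
              have hf : f ∈ S := hSeq ▸ Finset.mem_insert_self _ _
              rw [recip_natDegree (hSmem f hf).1]
              omega
          omega
        omega
      have hall : a ≤ p ^ 0 := by
        simp only [pow_zero]
        by_contra hcon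
        have := haev (by rw [Nat.even_iff]; omega) (by omega)
        omega
      have h := hmain M 0 (by rcases hM with rfl | rfl; exacts [(@heven 3).1, (@heven 3).2]) dvd_rfl
        hsum hall
      rw [pow_zero, mul_one] at h
      rcases hM with rfl | rfl
      · exact (xdiv_semisimple h2 (M := Nat.lcm (Fintype.card F ^ 3 - 1) (Fintype.card F + 1))
          (by simp [expList])).of_dvd (h.trans (Nat.dvd_lcm_left _ _))
      · exact (xdiv_semisimple h2 (M := Nat.lcm (Fintype.card F ^ 3 + 1) (Fintype.card F - 1))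
          (by simp [expList])).of_dvd (h.trans (Nat.dvd_lcm_left _ _))
    · -- one class of dimension eight
      have hall : ∀ f ∈ S, Φ.count f ≤ p ^ 0 := fun f hf => by have := hmult f hf; simp; omega
      have h := hmain M 0 (by rcases hM with rfl | rfl; exacts [(@heven 4).1, (@heven 4).2]) dvd_rfl hall
        (by omega)
      rw [pow_zero, mul_one] at h
      refine xdiv_of_semiregular h2 hdim he hg ?_ hM (orderOf_dvd_iff_pow_eq_one.1 h)
      intro x hx i hi
      refine endo_injective ?_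
      rw [map_pow, map_one, ← hG]
      -- the minimal polynomial divides `X ^ i - 1`
      have hfS : f ∈ S := hSeq ▸ Finset.mem_insert_self _ _
      obtain ⟨P, hP⟩ : ∃ P, P = (X ^ i - 1 : F[X]) := ⟨_, rfl⟩
      have hPx : aeval G P x = 0 := by
        rw [hP, map_sub, map_pow, aeval_X, map_one, hG, ← map_pow, LinearMap.sub_apply, endo_apply, hi,
          Module.End.one_apply, sub_self]
      by_contra hne
      have hndvd : ¬ μ ∣ P := by
        rintro ⟨Z, hZ⟩
        refine hne ?_
        have h1 := congrArg (aeval G) hZ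
        rw [map_mul (aeval G) μ, hμ, minpoly.aeval, zero_mul, hP, map_sub, map_pow, aeval_X, map_one,
          sub_eq_zero] at h1
        exact h1
      have hP0 : P ≠ 0 := fun h0 => hndvd (h0 ▸ dvd_zero _)
      have hnot : ∀ g ∈ Φ, ¬ g ∣ P := by
        intro u hu hd
        refine hndvd (dvd_of_count_le hμ0 hP0 fun v hv => ?_)
        rw [← hΦ] at hv ⊢
        have hvS : v ∈ S ∧ u ∈ S := by
          have hX : ∀ v ∈ Φ, v ∈ S := fun v hv => by
            rw [hS, Finset.mem_erase, Multiset.mem_toFinset]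
            refine ⟨fun h1 => ?_, hv⟩
            have := Multiset.count_pos.2 hv
            rw [h1, ← ha] at this
            omega
          exact ⟨hX v hv, hX u hu⟩
        refine le_trans ((hall v hvS.1).trans (by rw [pow_zero])) (hcount P hP0 v (hmem v hv).1 1 ?_)
        rw [pow_one]
        -- reciprocal roots have the same order
        have hrec : ∀ u : F[X], IsFactor u → u ∣ P → recip u ∣ P := by
          intro u hu hd
          haveI := Fact.mk hu.2.1
          rw [CfsgLib.Spectrum.EightEven.recip_eq]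
          refine minpoly.dvd F _ ?_
          rw [hP, map_sub, map_pow, aeval_X, map_one]
          have h1 := AdjoinRoot.mk_eq_zero.2 hd
          rw [hP, map_sub, map_pow, AdjoinRoot.mk_X, map_one, sub_eq_zero] at h1
          rw [inv_pow, h1, inv_one, sub_self]
        have hv' := hvS.1
        have hu' := hvS.2
        rw [hSeq, Finset.mem_insert, Finset.mem_singleton] at hv' hu'
        have hfP : f ∣ P := by
          rcases hu' with rfl | rfl
          · exact hd
          · rw [← recip_recip (hSmem f hfS).1]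
            exact hrec _ (hSmem f hfS).1.recip hd
        rcases hv' with rfl | rfl
        exacts [hfP, hrec _ (hSmem f hfS).1 hfP]
      have hcop : IsCoprime μ P := by
        rw [← hprod]
        have : ∀ s : Multiset F[X], (∀ g ∈ s, g ∈ Φ) → IsCoprime s.prod P := by
          intro s
          induction s using Multiset.induction with
          | empty => intro _; simp [isCoprime_one_left]
          | cons g s ih =>
            intro hs
            rw [Multiset.prod_cons]
            refine IsCoprime.mul_left ?_ (ih fun g hg => hs g (Multiset.mem_cons_of_mem hg))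
            exact (hmem g (hs g (Multiset.mem_cons_self g s))).1.2.1.coprime_iff_not_dvd.2
              (hnot g (hs g (Multiset.mem_cons_self g s)))
        exact this Φ fun g hg => hg
      obtain ⟨u, v, huv⟩ := hcop
      refine hx ?_
      have h1 := congrArg (fun R => aeval G R x) huv
      simp only [map_add, map_mul, map_one, Module.End.one_apply, LinearMap.add_apply, Module.End.mul_apply,
        hPx, map_zero, add_zero] at h1
      rw [← h1, hμ, minpoly.aeval, LinearMap.zero_apply, map_zero]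

end CfsgLib.Spectrum.NineOdd
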