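import Cfsg.Agent.Lib.OrthCrit.Basic
import Cfsg.Agent.Lib.Classical.Quad.Index
import Cfsg.Agent.Lib.Classical.Quad.Model
import Cfsg.Agent.Lib.RootCount.QuadType
import Cfsg.Agent.Lib.Spectrum.EightEven.Pieces

/-!
The spinor character and the excess of a quadratic space of odd characteristic.
-/

set_option autoImplicit false
set_option linter.unusedSectionVars false
set_option linter.style.haveILetI false

namespace CfsgLib.Spectrum.NineOdd

open Module QuadraticMap
open CfsgLib.Classical.Quad (NDPolar Orth refl levelSign orth_ext)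
open CfsgLib.Spectrum.EightEven (HasExcess prodOrth conjOrth conjOrth_apply exists_pack)

variable {F : Type*} [Field F] [Fintype F]
variable {V : Type*} [AddCommGroup V] [Module F V] [Finite V]
variable {V₁ V₂ : Type*} [AddCommGroup V₁] [Module F V₁] [AddCommGroup V₂] [Module F V₂]
variable {Q : QuadraticForm F V}

/-- An isometry as an endomorphism. -/
def endo (Q : QuadraticForm F V) : Orth Q →* Module.End F V where
  toFun g := (g.1 : V →ₗ[F] V)
  map_one' := rfl
  map_mul' _ _ := rfl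

theorem endo_apply (g : Orth Q) (x : V) : endo Q g x = g.1 x := rfl

theorem endo_injective : Function.Injective (endo Q) := fun g h e =>
  orth_ext fun x => LinearMap.congr_fun e x

/-- Determinant one and trivial spinor character. -/
def Good [FiniteDimensional F V] (g : Orth Q) : Prop :=
  CfsgLib.Classical.Quad.detHom Q g = 1 ∧ levelSign Q 1 g = 1

/-- Determinant one and non-trivial spinor character. -/
def Bad [FiniteDimensional F V] (g : Orth Q) : Prop :=
  CfsgLib.Classical.Quad.detHom Q g = 1 ∧ levelSign Q 1 g = -1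

theorem Good.one [FiniteDimensional F V] : Good (1 : Orth Q) := ⟨map_one _, map_one _⟩

theorem Good.mul [FiniteDimensional F V] {g h : Orth Q} (hg : Good g) (hh : Good h) : Good (g * h) :=
  ⟨by rw [map_mul, hg.1, hh.1, mul_one], by rw [map_mul, hg.2, hh.2, mul_one]⟩

theorem Good.pow [FiniteDimensional F V] {g : Orth Q} (hg : Good g) (n : ℕ) : Good (g ^ n) :=
  ⟨by rw [map_pow, hg.1, one_pow], by rw [map_pow, hg.2, one_pow]⟩

theorem sign_congr {α β : Type*} {dα : DecidableEq α} {fα : Fintype α} {dβ : DecidableEq β} {fβ : Fintype β}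
    (f : Equiv.Perm α) (g : Equiv.Perm β) (e : α ≃ β) (h : ∀ x, e (f x) = g (e x)) :
    @Equiv.Perm.sign α dα fα f = @Equiv.Perm.sign β dβ fβ g :=
  Equiv.Perm.sign_eq_sign_of_equiv f g e h

section conj

variable {V' : Type*} [AddCommGroup V'] [Module F V'] [Finite V']

theorem levelSign_conj {Q' : QuadraticForm F V'} (E : V' ≃ₗ[F] V) (hE : ∀ x, Q (E x) = Q' x)
    (c : F) (g : Orth Q) : levelSign Q' c (conjOrth E hE g) = levelSign Q c g := by
  classical
  haveI := Fintype.ofFinite V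
  haveI := Fintype.ofFinite V'
  unfold levelSign
  simp only [MonoidHom.coe_comp, Function.comp_apply]
  refine sign_congr _ _ (E.toEquiv.subtypeEquiv fun x => by simp [hE]) fun x => ?_
  exact Subtype.ext (by
    show E ((conjOrth E hE g).1 x.1) = g.1 (E x.1)
    rw [conjOrth_apply, LinearEquiv.apply_symm_apply])

theorem detHom_conj [FiniteDimensional F V] [FiniteDimensional F V'] {Q' : QuadraticForm F V'}
    (E : V' ≃ₗ[F] V) (hE : ∀ x, Q (E x) = Q' x) (g : Orth Q) :
    CfsgLib.Classical.Quad.detHom Q' (conjOrth E hE g) = CfsgLib.Classical.Quad.detHom Q g := by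
  apply Units.ext
  show (LinearEquiv.det (conjOrth E hE g).1 : F) = (LinearEquiv.det g.1 : F)
  rw [LinearEquiv.coe_det, LinearEquiv.coe_det, ← LinearMap.det_conj (g.1 : V →ₗ[F] V) E.symm]
  rfl

theorem refl_conj {Q' : QuadraticForm F V'} (E : V' ≃ₗ[F] V) (hE : ∀ x, Q (E x) = Q' x) (v : V') :
    conjOrth E hE (refl Q (E v)) = refl Q' v := by
  refine orth_ext fun x => ?_
  have hp : polar Q (E x) (E v) = polar Q' x v := by simp [polar, ← map_add, hE]
  rw [conjOrth_apply, CfsgLib.Classical.Quad.refl_apply, CfsgLib.Classical.Quad.refl_apply, hp, hE,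
    map_add, map_smul, LinearEquiv.symm_apply_apply, LinearEquiv.symm_apply_apply]

theorem good_conj [FiniteDimensional F V] [FiniteDimensional F V'] {Q' : QuadraticForm F V'}
    (E : V' ≃ₗ[F] V) (hE : ∀ x, Q (E x) = Q' x) {g : Orth Q} :
    Good (conjOrth E hE g) ↔ Good g := by
  rw [Good, Good, detHom_conj, levelSign_conj]

end conj

theorem levelSign_eq_theta {ι : Type} [Fintype ι] [DecidableEq ι] {Q : QuadraticForm F (ι → F)} (c : F)
    (g : ↥(Cfsg.isometryGroup F ⇑Q)) :
    levelSign Q c (CfsgLib.OrthCrit.toOrth Q g) = CfsgLib.OrthSpinor.theta (Q := Q) c g := by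
  classical
  unfold levelSign CfsgLib.OrthSpinor.theta
  simp only [MonoidHom.coe_comp, Function.comp_apply]
  refine sign_congr _ _ (Equiv.refl _) fun x => Subtype.ext ?_
  exact CfsgLib.OrthCrit.toOrth_apply g x.1

theorem detHom_toOrth {ι : Type} [Fintype ι] [DecidableEq ι] {Q : QuadraticForm F (ι → F)}
    (g : ↥(Cfsg.isometryGroup F ⇑Q)) :
    CfsgLib.Classical.Quad.detHom Q (CfsgLib.OrthCrit.toOrth Q g) = CfsgLib.OrthSpinor.detHom g := by
  apply Units.ext
  show (LinearEquiv.det (CfsgLib.OrthCrit.toOrth Q g).1 : F) = _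
  rw [LinearEquiv.coe_det, CfsgLib.OrthSpinor.detHom_coe, ← LinearMap.det_toLin']
  congr 1

variable [FiniteDimensional F V]

open scoped _root_.Classical in
theorem levelSign_refl_eq (h2 : (2 : F) ≠ 0) {c : F} (hc : c ≠ 0) {v : V} (hv : Q v ≠ 0) :
    levelSign Q c (refl Q v) = if IsSquare (c * Q v) then -1 else 1 := by
  obtain ⟨Q', E, hE⟩ := exists_pack (n := finrank F V) rfl Q
  have hv' : Q' (E.symm v) ≠ 0 := by rw [← hE, LinearEquiv.apply_symm_apply]; exact hv
  rw [← levelSign_conj E hE, ← E.apply_symm_apply v, refl_conj, ← CfsgLib.OrthCrit.toOrth_reflection hv',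
    levelSign_eq_theta, hE]
  split_ifs with h
  · exact CfsgLib.OrthSpinor.theta_reflection_of_square h2 hc hv' h
  · exact CfsgLib.OrthSpinor.theta_reflection_of_nonsquare h2 hc hv' h

theorem closure_refl_eq_top (h2 : (2 : F) ≠ 0) (hnd : NDPolar Q) :
    Subgroup.closure (CfsgLib.Orth.reflSet Q) = ⊤ :=
  CfsgLib.Orth.closure_refl hnd (Or.inl ⟨-1, by simp, fun h => h2 (by linear_combination -h)⟩)

theorem hom_ext_refl {A : Type*} [Group A] (h2 : (2 : F) ≠ 0) (hnd : NDPolar Q) {φ ψ : Orth Q →* A}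
    (h : ∀ v, Q v ≠ 0 → φ (refl Q v) = ψ (refl Q v)) : φ = ψ :=
  MonoidHom.eq_of_eqOn_dense (closure_refl_eq_top h2 hnd) (by rintro _ ⟨v, hv, rfl⟩; exact h v hv)

theorem mem_commutator_iff_good (h2 : (2 : F) ≠ 0) (hnd : NDPolar Q) (hdim : 2 ≤ finrank F V) (g : Orth Q) :
    g ∈ commutator (Orth Q) ↔ Good g := by
  classical
  obtain ⟨Q', E, hE⟩ := exists_pack (n := finrank F V) rfl Q
  have hnd' := CfsgLib.Spectrum.EightEven.NDPolar.of_equiv hnd E hE
  let φ : Orth Q ≃* ↥(Cfsg.isometryGroup F ⇑Q') :=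
    (CfsgLib.Classical.Quad.orthCongr E.symm fun x => by rw [← hE, LinearEquiv.apply_symm_apply]).trans
      (CfsgLib.OrthCrit.toOrth Q').symm
  have hφ : CfsgLib.OrthCrit.toOrth Q' (φ g) = conjOrth E hE g :=
    (MulEquiv.apply_symm_apply _ _).trans (orth_ext fun x => rfl)
  have hcomm : (commutator (Orth Q)).map φ.toMonoidHom = commutator _ := by
    rw [commutator_def, Subgroup.map_commutator, Subgroup.map_top_of_surjective _ φ.surjective, commutator_def]
  have hmem : g ∈ commutator (Orth Q) ↔ φ g ∈ Cfsg.Omega F ⇑Q' := by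
    rw [show Cfsg.Omega F ⇑Q' = commutator _ from rfl, ← hcomm]
    exact (Subgroup.mem_map_iff_mem φ.injective).symm
  rw [hmem, CfsgLib.OrthSpinor.mem_Omega_iff h2 (CfsgLib.Orth.ndPolar_iff.1 hnd') (by simpa using hdim)
    one_ne_zero, ← detHom_toOrth, ← levelSign_eq_theta, hφ, detHom_conj, levelSign_conj]
  rfl

theorem good_of_pow_char (h2 : (2 : F) ≠ 0) {p : ℕ} [Fact p.Prime] [CharP F p] {g : Orth Q} {e : ℕ}
    (hg : g ^ p ^ e = 1) : Good g := by
  have hp2 : Odd (p ^ e) := by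
    refine Odd.pow ((Nat.Prime.eq_two_or_odd' Fact.out).resolve_left fun h => h2 ?_)
    subst h
    exact_mod_cast CharP.cast_eq_zero F 2
  constructor
  · have h := congrArg (CfsgLib.Classical.Quad.detHom Q) hg
    rw [map_pow, map_one] at h
    have h' : ((CfsgLib.Classical.Quad.detHom Q g : F) - 1) ^ p ^ e = 0 := by
      rw [sub_pow_char_pow, ← Units.val_pow_eq_pow_val, h, one_pow, Units.val_one, sub_self]
    exact Units.ext (sub_eq_zero.1 (pow_eq_zero_iff (pow_ne_zero _ (Nat.Prime.ne_zero Fact.out)) |>.1 h'))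
  · have h := congrArg (levelSign Q (1 : F)) hg
    rw [map_pow, map_one] at h
    rcases Int.units_eq_one_or (levelSign Q 1 g) with h1 | h1
    · exact h1
    · rw [h1, hp2.neg_one_pow] at h
      exact absurd h (by decide)

theorem det_eq_levelSign (h2 : (2 : F) ≠ 0) (hnd : NDPolar Q) {ν : F} (hν : ν ≠ 0) (hns : ¬ IsSquare ν)
    (g : Orth Q) : CfsgLib.Classical.Quad.detHom Q g =
      Units.map (Int.castRingHom F).toMonoidHom (levelSign Q 1 g * levelSign Q ν g) := by
  classical
  have key : CfsgLib.Classical.Quad.detHom Q =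
      (Units.map (Int.castRingHom F).toMonoidHom).comp (levelSign Q 1 * levelSign Q ν) := by
    refine hom_ext_refl h2 hnd fun v hv => ?_
    rw [CfsgLib.Classical.Quad.detHom_refl hv, MonoidHom.comp_apply, MonoidHom.mul_apply,
      levelSign_refl_eq h2 one_ne_zero hv, levelSign_refl_eq h2 hν hv, one_mul]
    have hiff : IsSquare (ν * Q v) ↔ ¬ IsSquare (Q v) := by
      constructor
      · rintro ⟨t, ht⟩ ⟨s, hs⟩
        have hs0 : s ≠ 0 := by rintro rfl; exact hv (by simpa using hs)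
        exact hns ⟨t / s, by field_simp; linear_combination ht - ν * hs⟩
      · intro h
        exact CfsgLib.OrthSpinor.isSquare_mul_of_not hns h
    by_cases h : IsSquare (Q v)
    · rw [if_pos h, if_neg fun h' => hiff.1 h' h, mul_one]
      exact Units.ext (by simp)
    · rw [if_neg h, if_pos (hiff.2 h), one_mul]
      exact Units.ext (by simp)
  exact DFunLike.congr_fun key g

/-- An isometry with all orbits on the non-zero vectors of the same even length `o`, each non-zero level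
set having `o * odd` elements. -/
theorem bad_of_semiregular (h2 : (2 : F) ≠ 0) (hnd : NDPolar Q) {g : Orth Q} {o : ℕ} (ho : Even o)
    (ho0 : 0 < o) (h1 : g ^ o = 1) (hfree : ∀ x ≠ 0, ∀ j : ℕ, (g ^ j).1 x = x → o ∣ j)
    (hlev : ∀ c : F, c ≠ 0 → ∃ k, Odd k ∧ Nat.card {x : V // Q x = c} = o * k) : Bad g := by
  classical
  haveI := Fintype.ofFinite V
  have hsign : ∀ c : F, c ≠ 0 → levelSign Q c g = -1 := by
    intro c hc
    obtain ⟨k, hk, hcard⟩ := hlev c hc
    letI := Fintype.ofFinite (CfsgLib.Classical.Quad.Level Q c)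
    obtain ⟨π, hπ⟩ : ∃ π, π = CfsgLib.Classical.Quad.levelPerm Q c g := ⟨_, rfl⟩
    have hπj : ∀ (j : ℕ) x, ((π ^ j) x : V) = (g ^ j).1 x.1 := fun j x => by
      rw [hπ, ← map_pow]; rfl
    have hper : ∀ x j, (π ^ j) x = x ↔ o ∣ j := by
      intro x j
      have hx0 : (x : V) ≠ 0 := fun h => hc (by rw [← x.2, h, QuadraticMap.map_zero])
      rw [Subtype.ext_iff, hπj]
      refine ⟨hfree _ hx0 j, ?_⟩
      rintro ⟨l, rfl⟩
      rw [pow_mul, h1, one_pow]
      rfl
    obtain ⟨d, hd, hsgn⟩ :=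
      CfsgLib.Spectrum.OrthOddMixed.sign_of_semiregular π ho fun x _ j => hper x j
    have hsupp : π.support = Finset.univ := by
      refine Finset.eq_univ_iff_forall.2 fun x => Equiv.Perm.mem_support.2 fun h => ?_
      have := (hper x 1).1 (by rwa [pow_one])
      rw [Nat.dvd_one] at this
      rw [this] at ho
      exact absurd ho (by decide)
    rw [hsupp, Finset.card_univ, ← Nat.card_eq_fintype_card,
      show Nat.card (CfsgLib.Classical.Quad.Level Q c) = o * k from hcard] at hd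
    have hdk : d = k := (Nat.eq_of_mul_eq_mul_left ho0 hd).symm
    have hls : levelSign Q c g = Equiv.Perm.sign π := by
      rw [hπ]
      unfold levelSign
      simp only [MonoidHom.coe_comp, Function.comp_apply]
      refine sign_congr _ _ (Equiv.refl _) fun x => rfl
    rw [hls, hsgn, hdk, hk.neg_one_pow]
  refine ⟨?_, hsign 1 one_ne_zero⟩
  obtain ⟨ν, hν, hns⟩ := CfsgLib.OrthSpinor.exists_nonsquare' h2
  rw [det_eq_levelSign h2 hnd hν hns, hsign 1 one_ne_zero, hsign ν hν]
  exact Units.ext (by simp)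

section prod

variable [Finite V₁] [Finite V₂] [FiniteDimensional F V₁] [FiniteDimensional F V₂]
variable {Q₁ : QuadraticForm F V₁} {Q₂ : QuadraticForm F V₂}

theorem detHom_prodOrth (g : Orth Q₁) (h : Orth Q₂) :
    CfsgLib.Classical.Quad.detHom (Q₁.prod Q₂) (prodOrth (g, h)) =
      CfsgLib.Classical.Quad.detHom Q₁ g * CfsgLib.Classical.Quad.detHom Q₂ h := by
  apply Units.ext
  show (LinearEquiv.det (prodOrth (g, h)).1 : F) = (LinearEquiv.det g.1 : F) * (LinearEquiv.det h.1 : F)
  rw [LinearEquiv.coe_det, LinearEquiv.coe_det, LinearEquiv.coe_det, ← LinearMap.det_prodMap]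
  rfl

theorem levelSign_prodOrth (h2 : (2 : F) ≠ 0) (h₁ : NDPolar Q₁) (h₂ : NDPolar Q₂) {c : F} (hc : c ≠ 0)
    (g : Orth Q₁) (h : Orth Q₂) :
    levelSign (Q₁.prod Q₂) c (prodOrth (g, h)) = levelSign Q₁ c g * levelSign Q₂ c h := by
  classical
  have e₁ : (levelSign (Q₁.prod Q₂) c).comp (prodOrth.comp (MonoidHom.inl _ _)) = levelSign Q₁ c := by
    refine hom_ext_refl h2 h₁ fun v hv => ?_
    have hv' : (Q₁.prod Q₂) (v, 0) = Q₁ v := by simp
    have hr : prodOrth (refl Q₁ v, (1 : Orth Q₂)) = refl (Q₁.prod Q₂) (v, 0) := by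
      refine orth_ext fun x => ?_
      have hp : polar (Q₁.prod Q₂) x (v, 0) = polar Q₁ x.1 v := by simp [polar]
      rw [CfsgLib.Classical.Quad.refl_apply, hp, hv']
      refine Prod.ext ?_ ?_
      · show (refl Q₁ v).1 x.1 = _
        rw [CfsgLib.Classical.Quad.refl_apply]; rfl
      · show x.2 = _
        simp
    show levelSign (Q₁.prod Q₂) c (prodOrth (refl Q₁ v, 1)) = _
    rw [hr, levelSign_refl_eq h2 hc (by rwa [hv']), levelSign_refl_eq h2 hc hv, hv']
  have e₂ : (levelSign (Q₁.prod Q₂) c).comp (prodOrth.comp (MonoidHom.inr _ _)) = levelSign Q₂ c := by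
    refine hom_ext_refl h2 h₂ fun v hv => ?_
    have hv' : (Q₁.prod Q₂) (0, v) = Q₂ v := by simp
    have hr : prodOrth ((1 : Orth Q₁), refl Q₂ v) = refl (Q₁.prod Q₂) (0, v) := by
      refine orth_ext fun x => ?_
      have hp : polar (Q₁.prod Q₂) x (0, v) = polar Q₂ x.2 v := by simp [polar]
      rw [CfsgLib.Classical.Quad.refl_apply, hp, hv']
      refine Prod.ext ?_ ?_
      · show x.1 = _
        simp
      · show (refl Q₂ v).1 x.2 = _
        rw [CfsgLib.Classical.Quad.refl_apply]; rfl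
    show levelSign (Q₁.prod Q₂) c (prodOrth (1, refl Q₂ v)) = _
    rw [hr, levelSign_refl_eq h2 hc (by rwa [hv']), levelSign_refl_eq h2 hc hv, hv']
  rw [← DFunLike.congr_fun e₁ g, ← DFunLike.congr_fun e₂ h]
  show _ = levelSign (Q₁.prod Q₂) c (prodOrth (g, (1 : Orth Q₂))) * levelSign (Q₁.prod Q₂) c (prodOrth ((1 : Orth Q₁), h))
  rw [← map_mul, ← map_mul, Prod.mk_mul_mk, mul_one, one_mul]

theorem Good.prod (h2 : (2 : F) ≠ 0) (h₁ : NDPolar Q₁) (h₂ : NDPolar Q₂) {g : Orth Q₁} {h : Orth Q₂}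
    (hg : Good g) (hh : Good h) : Good (prodOrth (g, h)) :=
  ⟨by rw [detHom_prodOrth, hg.1, hh.1, mul_one],
    by rw [levelSign_prodOrth h2 h₁ h₂ one_ne_zero, hg.2, hh.2, mul_one]⟩

theorem Bad.prod (h2 : (2 : F) ≠ 0) (h₁ : NDPolar Q₁) (h₂ : NDPolar Q₂) {g : Orth Q₁} {h : Orth Q₂}
    (hg : Bad g) (hh : Bad h) : Good (prodOrth (g, h)) :=
  ⟨by rw [detHom_prodOrth, hg.1, hh.1, mul_one],
    by rw [levelSign_prodOrth h2 h₁ h₂ one_ne_zero, hg.2, hh.2]; rfl⟩

theorem good_of_prod_good (h2 : (2 : F) ≠ 0) (h₁ : NDPolar Q₁) (h₂ : NDPolar Q₂) {g : Orth Q₁} {h : Orth Q₂}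
    (hgh : Good (prodOrth (g, h))) (hh : Good h) : Good g := by
  obtain ⟨hd, hs⟩ := hgh
  rw [detHom_prodOrth, hh.1, mul_one] at hd
  rw [levelSign_prodOrth h2 h₁ h₂ one_ne_zero, hh.2, mul_one] at hs
  exact ⟨hd, hs⟩

end prod

end CfsgLib.Spectrum.NineOdd
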