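import Cfsg.Agent.Lib.Spectrum.NineOdd.Bound
import Cfsg.Agent.Lib.Classical.Quad.Std

/-!
The orders in `PΩ(9, q)` and in the extension of `Ω⁻(8, q)` by its module coincide, `q` odd.
-/

set_option autoImplicit false
set_option linter.unusedSectionVars false
set_option linter.style.haveILetI false

namespace CfsgLib.Spectrum.NineOdd

open Module QuadraticMap
open CfsgLib.Classical.Quad (NDPolar Orth orth_ext lineForm)
open CfsgLib.Orth (moved subOne subOne_apply)
open CfsgLib.OrthCrit (oddForm minusForm)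
open CfsgLib.Spectrum.EightEven (HasExcess prodOrth prodOrth_injective conjOrth conjOrth_apply
  conjOrth_injective exists_pack mkOrth mkOrth_apply powSum powSum_mul powSum_conjOrth ndPolar_prod)

variable {F : Type*} [Field F] [Fintype F]
variable {V : Type*} [AddCommGroup V] [Module F V] [Finite V] [FiniteDimensional F V]
variable {Q : QuadraticForm F V}

theorem finite_orth (Q : QuadraticForm F V) : Finite (Orth Q) :=
  Finite.of_injective (fun g : Orth Q => (g.1 : V → V)) fun _ _ hgh => orth_ext fun x => congrFun hgh x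

theorem powSum_prod {V₁ V₂ : Type*} [AddCommGroup V₁] [Module F V₁] [AddCommGroup V₂] [Module F V₂]
    {Q₁ : QuadraticForm F V₁} {Q₂ : QuadraticForm F V₂} (g : Orth Q₁) (h : Orth Q₂) (k : ℕ)
    (w : V₁ × V₂) : powSum (prodOrth (g, h)) k w = (powSum g k w.1, powSum h k w.2) := by
  induction k with
  | zero => rfl
  | succ k ih =>
    simp only [powSum, Finset.sum_range_succ] at ih ⊢
    rw [ih, ← map_pow]
    rfl

theorem powSum_eq_zero_of_free {g : Orth Q} (hfix : ∀ x, g.1 x = x → x = 0) {k : ℕ} (hk : g ^ k = 1)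
    (w : V) : powSum g k w = 0 := by
  refine hfix _ ?_
  rw [powSum, map_sum]
  have h : ∀ i, g.1 ((g ^ i).1 w) = (g ^ (i + 1)).1 w := fun i => by rw [pow_succ']; rfl
  simp only [h]
  rw [← sub_eq_zero, ← Finset.sum_sub_distrib, Finset.sum_range_sub (fun i => (g ^ i).1 w), hk, pow_zero,
    sub_self]

theorem unip_pow_eq_one (p : ℕ) [Fact p.Prime] [CharP F p] {g : Orth Q} {n i : ℕ}
    (hn : (endo Q g - 1) ^ n = 0) (hi : n ≤ p ^ i) : g ^ p ^ i = 1 := by
  rcases subsingleton_or_nontrivial V with h | h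
  · exact orth_ext fun x => Subsingleton.elim _ _
  · exact pow_char_pow_eq_one p hn hi

theorem even_finrank_of_free (h2 : (2 : F) ≠ 0) (hnd : NDPolar Q) {g : Orth Q}
    (hdet : CfsgLib.Classical.Quad.detHom Q g = 1) (hfix : ∀ x, g.1 x = x → x = 0) :
    Even (finrank F V) := by
  classical
  obtain ⟨Q', E, hE⟩ := exists_pack (n := finrank F V) rfl Q
  have hnd' := CfsgLib.Spectrum.EightEven.NDPolar.of_equiv hnd E hE
  obtain ⟨g', hg'⟩ : ∃ g', g' = conjOrth E hE g := ⟨_, rfl⟩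
  have hinj : Function.Injective (subOne g') := by
    rw [injective_iff_map_eq_zero]
    intro x hx
    rw [subOne_apply, sub_eq_zero, hg', conjOrth_apply, LinearEquiv.symm_apply_eq] at hx
    exact E.map_eq_zero_iff.1 (hfix _ hx)
  have hm : moved g' = finrank F V := by
    rw [moved, LinearMap.finrank_range_of_inj hinj, finrank_fin_fun]
  have hd : CfsgLib.OrthSpinor.detHom ((CfsgLib.OrthCrit.toOrth Q').symm g') = 1 := by
    rw [← detHom_toOrth, MulEquiv.apply_symm_apply, hg', detHom_conj, hdet]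
  rw [CfsgLib.OrthCrit.detHom_eq_one_iff hnd' h2, CfsgLib.OrthCrit.parity, MulEquiv.apply_symm_apply, hm,
    ZMod.natCast_eq_zero_iff_even] at hd
  exact hd

/-- The decomposition of a good isometry into a part without fixed points and a unipotent part. -/
theorem exists_fitting (h2 : (2 : F) ≠ 0) (hnd : NDPolar Q) {g : Orth Q} (hg : Good g) :
    ∃ (k n₂ : ℕ) (Q₁ : QuadraticForm F (Fin (2 * k) → F)) (Q₂ : QuadraticForm F (Fin n₂ → F))
      (E : ((Fin (2 * k) → F) × (Fin n₂ → F)) ≃ₗ[F] V) (hE : ∀ x, Q (E x) = (Q₁.prod Q₂) x)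
      (h₁ : Orth Q₁) (h₂ : Orth Q₂), 2 * k + n₂ = finrank F V ∧ NDPolar Q₁ ∧ NDPolar Q₂ ∧
        conjOrth E hE g = prodOrth (h₁, h₂) ∧ Good h₁ ∧ (∀ x, h₁.1 x = x → x = 0) ∧
        (endo Q₂ h₂ - 1) ^ n₂ = 0 := by
  obtain ⟨p, hp⟩ := CharP.exists F
  haveI : Fact p.Prime := ⟨CharP.char_is_prime F p⟩
  obtain ⟨N, hN⟩ : ∃ N, N = endo Q g - 1 := ⟨_, rfl⟩
  obtain ⟨n, hn⟩ : ∃ n, n = finrank F V := ⟨_, rfl⟩
  obtain ⟨U, hU⟩ : ∃ U, U = LinearMap.range (N ^ n) := ⟨_, rfl⟩
  obtain ⟨W, hW⟩ : ∃ W, W = LinearMap.ker (N ^ n) := ⟨_, rfl⟩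
  have hNapp : ∀ x, N x = g.1 x - x := fun x => by rw [hN]; rfl
  have hker : ∀ m, LinearMap.ker (N ^ m) ≤ LinearMap.ker (N ^ n) := fun m =>
    hn ▸ Module.End.ker_pow_le_ker_pow_finrank N m
  have hdisj : Disjoint U W := by
    rw [Submodule.disjoint_def]
    intro x hxU hxW
    rw [hU] at hxU
    rw [hW, LinearMap.mem_ker] at hxW
    obtain ⟨y, rfl⟩ := hxU
    have hy : y ∈ LinearMap.ker (N ^ (n + n)) := by
      rw [LinearMap.mem_ker, pow_add, Module.End.mul_apply, hxW]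
    exact LinearMap.mem_ker.1 (hker _ hy)
  have hcompl : IsCompl U W := by
    refine (Submodule.isCompl_iff_disjoint _ _ ?_).2 hdisj
    rw [hU, hW, LinearMap.finrank_range_add_finrank_ker]
  have hmove : ∀ (i : ℕ) a b, polar Q ((N ^ i) a) ((endo Q g ^ i) b) =
      (-1 : F) ^ i * polar Q a ((N ^ i) b) := by
    intro i
    induction i with
    | zero => intro a b; simp
    | succ i ih =>
      intro a b
      rw [pow_succ' N i, pow_succ' (endo Q g) i, Module.End.mul_apply, Module.End.mul_apply]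
      have h1 : ∀ u v, polar Q (N u) (endo Q g v) = -polar Q u (N v) := fun u v => by
        rw [hNapp, hNapp, endo_apply, polar_sub_left, CfsgLib.Classical.Quad.orth_polar, polar_sub_right]
        ring
      rw [h1, ← Module.End.mul_apply N,
        show N * endo Q g ^ i = endo Q g ^ i * N from
          (hN ▸ ((Commute.refl (endo Q g)).pow_right i).sub_left (Commute.one_left _) :
            Commute N (endo Q g ^ i)).eq,
        Module.End.mul_apply, ih, ← Module.End.mul_apply (N ^ i) N, ← pow_succ, pow_succ', pow_succ]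
      ring
  have horth : ∀ u ∈ U, ∀ w ∈ W, polar Q u w = 0 := by
    intro u hu w hw
    rw [hU] at hu
    obtain ⟨a, rfl⟩ := hu
    rw [hW, LinearMap.mem_ker] at hw
    obtain ⟨T, hT⟩ : ∃ T, T = endo Q (g ^ n)⁻¹ := ⟨_, rfl⟩
    have hw' : w = (endo Q g ^ n) (T w) := by
      rw [hT, ← map_pow, ← Module.End.mul_apply, ← map_mul, mul_inv_cancel, map_one, Module.End.one_apply]
    have hc : Commute (N ^ n) T := by
      refine (Commute.pow_left ?_ n)
      rw [hN, hT]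
      exact ((((Commute.refl g).pow_right n).inv_right).map (endo Q)).sub_left (Commute.one_left _)
    rw [hw', hmove, ← Module.End.mul_apply, hc.eq, Module.End.mul_apply, hw, map_zero, polar_zero_right,
      mul_zero]
  have hcN : Commute (endo Q g) (N ^ n) := by
    rw [hN]; exact ((Commute.refl (endo Q g)).sub_right (Commute.one_right _)).pow_right n
  have hUinv : ∀ x ∈ U, endo Q g x ∈ U := by
    intro x hx
    rw [hU] at hx ⊢
    obtain ⟨y, rfl⟩ := hx
    exact ⟨endo Q g y, by rw [← Module.End.mul_apply, ← hcN.eq, Module.End.mul_apply]⟩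
  have hWinv : ∀ x ∈ W, endo Q g x ∈ W := by
    intro x hx
    rw [hW, LinearMap.mem_ker] at hx ⊢
    rw [← Module.End.mul_apply, ← hcN.eq, Module.End.mul_apply, hx, map_zero]
  have hsub : ∀ {S T : Submodule F V}, IsCompl S T → (∀ s ∈ S, ∀ t ∈ T, polar Q s t = 0) →
      NDPolar (Q.comp S.subtype) := by
    intro S T hST hor x hx
    refine Subtype.ext (hnd _ fun y => ?_)
    obtain ⟨s, hs, t, ht, rfl⟩ := Submodule.mem_sup.1 (hST.sup_eq_top ▸ Submodule.mem_top : y ∈ _)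
    rw [polar_add_right, hor _ x.2 t ht, add_zero]
    exact hx ⟨s, hs⟩
  have hndU : NDPolar (Q.comp U.subtype) := hsub hcompl horth
  have hndW : NDPolar (Q.comp W.subtype) :=
    hsub hcompl.symm fun w hw u hu => by rw [polar_comm]; exact horth u hu w hw
  let gU : Orth (Q.comp U.subtype) := mkOrth hndU ((endo Q g).restrict hUinv) fun x => g.2 _
  let gW : Orth (Q.comp W.subtype) := mkOrth hndW ((endo Q g).restrict hWinv) fun x => g.2 _
  obtain ⟨Q₁', E₁, hE₁⟩ := exists_pack (n := finrank F U) rfl (Q.comp U.subtype)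
  obtain ⟨Q₂, E₂, hE₂⟩ := exists_pack (n := finrank F W) rfl (Q.comp W.subtype)
  have hE₁' : ∀ x, Q (E₁ x : V) = Q₁' x := hE₁
  have hE₂' : ∀ x, Q (E₂ x : V) = Q₂ x := hE₂
  let E : ((Fin (finrank F U) → F) × (Fin (finrank F W) → F)) ≃ₗ[F] V :=
    (E₁.prodCongr E₂).trans (Submodule.prodEquivOfIsCompl U W hcompl)
  have hEapp : ∀ x, E x = (E₁ x.1 : V) + (E₂ x.2 : V) := fun x => rfl
  have hE : ∀ x, Q (E x) = (Q₁'.prod Q₂) x := fun x => by
    rw [hEapp, QuadraticMap.map_add (⇑Q), horth _ (E₁ x.1).2 _ (E₂ x.2).2, add_zero, hE₁', hE₂',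
      QuadraticMap.prod_apply]
  obtain ⟨h₁, hh₁⟩ : ∃ h, h = conjOrth E₁ hE₁ gU := ⟨_, rfl⟩
  obtain ⟨h₂', hh₂⟩ : ∃ h, h = conjOrth E₂ hE₂ gW := ⟨_, rfl⟩
  have he₁ : ∀ x, (E₁ (h₁.1 x) : V) = g.1 (E₁ x) := fun x => by
    rw [hh₁, conjOrth_apply, LinearEquiv.apply_symm_apply]; rfl
  have he₂ : ∀ x, (E₂ (h₂'.1 x) : V) = g.1 (E₂ x) := fun x => by
    rw [hh₂, conjOrth_apply, LinearEquiv.apply_symm_apply]; rfl
  have hnd₁ := CfsgLib.Spectrum.EightEven.NDPolar.of_equiv hndU E₁ hE₁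
  have hnd₂ := CfsgLib.Spectrum.EightEven.NDPolar.of_equiv hndW E₂ hE₂
  have hconj : conjOrth E hE g = prodOrth (h₁, h₂') := by
    refine orth_ext fun x => ?_
    rw [conjOrth_apply, LinearEquiv.symm_apply_eq, hEapp, hEapp, map_add, ← he₁, ← he₂]
    rfl
  have hfix : ∀ x, h₁.1 x = x → x = 0 := by
    intro x hx
    have h1 := he₁ x
    rw [hx] at h1
    have h2' : (E₁ x : V) ∈ LinearMap.ker (N ^ 1) := by
      rw [pow_one, LinearMap.mem_ker, hNapp, ← h1, sub_self]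
    have h3 : (E₁ x : V) ∈ W := hW ▸ hker 1 h2'
    exact E₁.map_eq_zero_iff.1 (Subtype.ext (Submodule.disjoint_def.1 hdisj _ (E₁ x).2 h3))
  have hpow : ∀ (i : ℕ) x, (E₂ (((endo Q₂ h₂' - 1) ^ i) x) : V) = (N ^ i) (E₂ x) := by
    intro i
    induction i with
    | zero => intro x; rfl
    | succ i ih =>
      intro x
      rw [pow_succ', pow_succ', Module.End.mul_apply, Module.End.mul_apply, ← ih, hNapp, ← he₂,
        LinearMap.sub_apply, Module.End.one_apply, endo_apply, map_sub, Submodule.coe_sub]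
  have hnil : (endo Q₂ h₂' - 1) ^ finrank F W = 0 := by
    have h0 : (endo Q₂ h₂' - 1) ^ n = 0 := by
      refine LinearMap.ext fun x => E₂.injective (Subtype.ext ?_)
      rw [hpow, LinearMap.zero_apply, map_zero, Submodule.coe_zero]
      exact LinearMap.mem_ker.1 (hW ▸ (E₂ x).2)
    refine LinearMap.ext fun x => ?_
    have h := Module.End.ker_pow_le_ker_pow_finrank (endo Q₂ h₂' - 1) n
      (show x ∈ LinearMap.ker ((endo Q₂ h₂' - 1) ^ n) by rw [h0]; simp)
    rwa [finrank_fin_fun, LinearMap.mem_ker] at h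
  have hgood : Good h₁ := by
    refine good_of_prod_good h2 hnd₁ hnd₂ (h := h₂') ?_ (good_of_pow_char h2 (e := finrank F W)
      (unip_pow_eq_one p hnil (Nat.lt_pow_self (Nat.Prime.one_lt Fact.out)).le))
    rw [← hconj]
    exact (good_conj E hE).2 hg
  obtain ⟨k, hk⟩ := even_finrank_of_free h2 hnd₁ hgood.1 hfix
  rw [finrank_fin_fun] at hk
  have hdim : finrank F U + finrank F W = finrank F V := Submodule.finrank_add_eq_of_isCompl hcompl
  obtain ⟨m, hm⟩ : ∃ m, m = finrank F U := ⟨_, rfl⟩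
  revert Q₁' E₁ hk hdim
  rw [← hm]
  intro Q₁' E₁ hE₁ hE₁' E hEapp hE h₁ hh₁ he₁ hnd₁ hconj hfix hgood hk hdim
  obtain rfl : m = 2 * k := by omega
  exact ⟨k, _, Q₁', Q₂, E, hE, h₁, h₂', hdim, hnd₁, hnd₂, hconj, hgood, hfix, hnil⟩

theorem orderOf_dvd_of_conj {V₁ V₂ : Type*} [AddCommGroup V₁] [Module F V₁] [AddCommGroup V₂] [Module F V₂]
    {Q₁ : QuadraticForm F V₁} {Q₂ : QuadraticForm F V₂} {E : (V₁ × V₂) ≃ₗ[F] V}
    {hE : ∀ x, Q (E x) = (Q₁.prod Q₂) x} {g : Orth Q} {h₁ : Orth Q₁} {h₂ : Orth Q₂}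
    (hconj : conjOrth E hE g = prodOrth (h₁, h₂)) :
    orderOf g = Nat.lcm (orderOf h₁) (orderOf h₂) := by
  rw [← orderOf_injective _ (conjOrth_injective E hE) g, hconj, orderOf_injective _ prodOrth_injective,
    Prod.orderOf]

/-- Orders in `Ω(9, q)` are orders in the extension. -/
theorem xdiv_of_good_nine (h2 : (2 : F) ≠ 0) (hnd : NDPolar Q) (hdim : finrank F V = 9) {g : Orth Q}
    (hg : Good g) : XDiv F (orderOf g) := by
  obtain ⟨p, hp⟩ := CharP.exists F
  haveI : Fact p.Prime := ⟨CharP.char_is_prime F p⟩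
  have hp2 : p ≠ 2 := fun h => h2 (by subst h; exact_mod_cast CharP.cast_eq_zero F 2)
  obtain ⟨a, b, hab⟩ := exists_aniso' (F := F)
  obtain ⟨k, n₂, Q₁, Q₂, E, hE, h₁, h₂, hn, hn₁, hn₂, hconj, hg₁, hfix, hnil⟩ := exists_fitting h2 hnd hg
  rw [hdim] at hn
  rw [orderOf_dvd_of_conj hconj]
  obtain ⟨s, hs, he⟩ : ∃ s : ℤ, (s = 1 ∨ s = -1) ∧ HasExcess Q₁ (s * (Fintype.card F : ℤ) ^ k) := by
    rcases excess_cases Q₁ hn₁ (m := k) (by simp) hab with h | ⟨h, -⟩
    · exact ⟨1, Or.inl rfl, by rwa [one_mul]⟩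
    · exact ⟨-1, Or.inr rfl, by rwa [neg_one_mul]⟩
  by_cases hk : k = 4
  · subst hk
    have h21 : h₂ = 1 := by
      obtain rfl : n₂ = 1 := by omega
      rw [pow_one] at hnil
      exact endo_injective (by rw [map_one]; exact sub_eq_zero.1 hnil)
    rw [h21, orderOf_one, Nat.lcm_one_right]
    rcases hs with rfl | rfl
    · exact xdiv_of_fixed_point_free h2 hn₁ (by simp) (by rwa [one_mul] at he) hg₁ hfix
    · refine XDiv.of_good ⟨Q₁, hn₁, ?_, h₁, hg₁, dvd_rfl⟩
      rwa [neg_one_mul] at he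
  · obtain ⟨j, hj, hpj, hjp⟩ := exists_exp p hp2 (3 - k)
    refine (XDiv.of_unipotent h2 p (c := k) (d := 3 - k) hs hj hpj (by omega)
      ⟨Q₁, hn₁, he, h₁, hg₁, dvd_rfl⟩).of_dvd (Nat.lcm_dvd (Nat.dvd_lcm_left _ _) ?_)
    exact (orderOf_dvd_of_pow_eq_one (unip_pow_eq_one p hnil (by omega))).trans (Nat.dvd_lcm_right _ _)

/-- A space of dimension nine inside the standard one. -/
theorem exists_good_odd (h2 : (2 : F) ≠ 0) (hnd : NDPolar Q) (hdim : finrank F V = 9) {g : Orth Q}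
    (hg : Good g) : ∃ g' : Orth (oddForm 4 F), Good g' ∧ orderOf g' = orderOf g := by
  obtain ⟨d, hd, E, hE⟩ := CfsgLib.RootCount.classify_odd h2 Q hnd (m := 4) (by rw [hdim])
  have hE' : ∀ x, Q (E x) = (d • oddForm 4 F) x := fun x => by
    rw [hE, _root_.smul_apply, smul_eq_mul]
  let ψ : Orth (d • oddForm 4 F) →* Orth (oddForm 4 F) :=
    { toFun := fun h => ⟨h.1, fun x => mul_left_cancel₀ hd (by
        have := h.2 x
        simpa only [_root_.smul_apply, smul_eq_mul] using this)⟩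
      map_one' := rfl
      map_mul' := fun _ _ => rfl }
  have hψ : Function.Injective ψ := fun u v h => Subtype.ext (congrArg Subtype.val h :)
  obtain ⟨Φ, hΦ⟩ : ∃ Φ, Φ = ψ.comp (conjOrth E hE') := ⟨_, rfl⟩
  have hΦi : Function.Injective Φ := by rw [hΦ]; exact hψ.comp (conjOrth_injective E hE')
  refine ⟨Φ g, (mem_commutator_iff_good h2 (CfsgLib.OrthCrit.ndPolar_oddForm h2 4) (by simp) _).1 ?_,
    orderOf_injective _ hΦi g⟩
  have hmem := (mem_commutator_iff_good h2 hnd (by omega) g).2 hg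
  have hle : (commutator (Orth Q)).map Φ ≤ commutator (Orth (oddForm 4 F)) := by
    rw [commutator_def, commutator_def, Subgroup.map_commutator]
    exact Subgroup.commutator_mono le_top le_top
  exact hle (Subgroup.mem_map_of_mem _ hmem)

theorem ndPolar_line (h2 : (2 : F) ≠ 0) : NDPolar (lineForm F) := CfsgLib.Classical.Quad.ndPolar_lineForm h2

/-- Orders in the extension are orders in `Ω(9, q)`. -/
theorem exists_good_of_ext (h2 : (2 : F) ≠ 0) (hnd : NDPolar Q) (hdim : finrank F V = 8) {g : Orth Q}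
    (hg : Good g) (w : V) :
    ∃ g' : Orth (oddForm 4 F), Good g' ∧ g ^ orderOf g' = 1 ∧ powSum g (orderOf g') w = 0 := by
  obtain ⟨p, hp⟩ := CharP.exists F
  haveI : Fact p.Prime := ⟨CharP.char_is_prime F p⟩
  obtain ⟨k, n₂, Q₁, Q₂, E, hE, h₁, h₂, hn, hn₁, hn₂, hconj, hg₁, hfix, hnil⟩ := exists_fitting h2 hnd hg
  rw [hdim] at hn
  obtain ⟨v, hv⟩ : ∃ v, v = E.symm w := ⟨_, rfl⟩
  have hcrit : ∀ o, h₁ ^ o = 1 → h₂ ^ o = 1 → powSum h₂ o v.2 = 0 → g ^ o = 1 ∧ powSum g o w = 0 := by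
    intro o e₁ e₂ e₃
    constructor
    · apply conjOrth_injective E hE
      rw [map_pow, hconj, ← map_pow, Prod.pow_mk, e₁, e₂, ← Prod.one_eq_mk, map_one, map_one]
    · apply E.symm.injective
      have h := powSum_conjOrth E hE g o v
      rw [hconj, powSum_prod, powSum_eq_zero_of_free hfix e₁, e₃] at h
      rw [hv, LinearEquiv.apply_symm_apply] at h
      rw [← h, map_zero]
      rfl
  have he₂ : h₂ ^ p ^ n₂ = 1 := unip_pow_eq_one p hnil (Nat.lt_pow_self (Nat.Prime.one_lt Fact.out)).le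
  obtain ⟨i, -, hi⟩ := (Nat.dvd_prime_pow Fact.out).1 (orderOf_dvd_of_pow_eq_one he₂)
  have hgi : h₂ ^ p ^ i = 1 := hi ▸ pow_orderOf_eq_one h₂
  by_cases hz : powSum h₂ (p ^ i) v.2 = 0
  · have hh₂ : Good h₂ := good_of_pow_char h2 he₂
    obtain ⟨g', hg', ho⟩ := exists_good_odd h2 (ndPolar_prod (ndPolar_prod hn₁ hn₂) (ndPolar_line h2))
      (by simp; omega) (g := prodOrth (prodOrth (h₁, h₂), (1 : Orth (lineForm F))))
      (Good.prod h2 (ndPolar_prod hn₁ hn₂) (ndPolar_line h2) (Good.prod h2 hn₁ hn₂ hg₁ hh₂) Good.one)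
    refine ⟨g', hg', ?_⟩
    rw [ho, orderOf_injective _ prodOrth_injective, Prod.orderOf, orderOf_injective _ prodOrth_injective,
      Prod.orderOf, orderOf_one]
    simp only [Nat.lcm_one_right]
    refine hcrit _ (orderOf_dvd_iff_pow_eq_one.1 (Nat.dvd_lcm_left _ _))
      (orderOf_dvd_iff_pow_eq_one.1 (Nat.dvd_lcm_right _ _)) ?_
    rw [hi]
    obtain ⟨l, hl⟩ := Nat.dvd_lcm_right (orderOf h₁) (p ^ i)
    rw [hl, powSum_mul h₂ hgi, hz, smul_zero]
  · rw [powSum_char_pow] at hz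
    have hlt : p ^ i - 1 < n₂ := by
      by_contra hcon
      exact hz (by rw [pow_eq_zero_of_le (not_lt.1 hcon) hnil]; rfl)
    obtain ⟨d, hd⟩ : ∃ d, n₂ = 2 * d := ⟨4 - k, by omega⟩
    obtain ⟨r, ⟨e, hre⟩, hr⟩ := exists_regular_chain (F := F) h2 p d
    have hnc : NDPolar (chainForm F d) := ndPolar_chainForm h2 d
    have hgr : Good r := good_of_pow_char (p := p) (e := e) h2 hre
    have hgood : Good (prodOrth (h₁, r)) := Good.prod h2 hn₁ hnc hg₁ hgr
    have hd9 : finrank F ((Fin (2 * k) → F) × (Fin (2 * d + 1) → F)) = 9 := by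
      rw [finrank_prod, finrank_fin_fun, finrank_fin_fun]; omega
    obtain ⟨g', hg', ho⟩ := exists_good_odd h2 (ndPolar_prod hn₁ hnc) hd9 hgood
    refine ⟨g', hg', ?_⟩
    have hord : orderOf (prodOrth (h₁, r)) = Nat.lcm (orderOf h₁) (orderOf r) :=
      (orderOf_injective (prodOrth (Q₁ := Q₁) (Q₂ := chainForm F d))
        (prodOrth_injective (Q₁ := Q₁) (Q₂ := chainForm F d)) (h₁, r)).trans (Prod.orderOf _)
    rw [ho, hord]
    obtain ⟨l, -, hl⟩ := (Nat.dvd_prime_pow Fact.out).1 (orderOf_dvd_of_pow_eq_one hre)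
    have hil : i < l := by
      by_contra hcon
      have h1 : r ^ p ^ i = 1 := orderOf_dvd_iff_pow_eq_one.1 (hl ▸ pow_dvd_pow p (not_lt.1 hcon))
      haveI : CharP (Module.End F (Fin (2 * d + 1) → F)) p :=
        charP_of_injective_algebraMap (algebraMap F _).injective p
      refine hr (pow_eq_zero_of_le (show p ^ i ≤ 2 * d by omega) ?_)
      rw [sub_pow_char_pow_of_commute (p := p) (n := i) (Commute.one_right (endo (chainForm F d) r)),
        one_pow, ← map_pow, h1, map_one, sub_self]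
    have hdvd : p ^ i * p ∣ Nat.lcm (orderOf h₁) (orderOf r) := by
      rw [← pow_succ]
      exact (hl ▸ pow_dvd_pow p hil).trans (Nat.dvd_lcm_right _ _)
    refine hcrit _ (orderOf_dvd_iff_pow_eq_one.1 (Nat.dvd_lcm_left _ _))
      (orderOf_dvd_iff_pow_eq_one.1 (hi ▸ (Dvd.intro _ rfl).trans hdvd)) ?_
    obtain ⟨t, ht⟩ := hdvd
    rw [ht, mul_assoc, powSum_mul h₂ hgi, ← Nat.cast_smul_eq_nsmul F, Nat.cast_mul, CharP.cast_eq_zero,
      zero_mul, zero_smul]

theorem mem_commutator_mulEquiv {A B : Type*} [Group A] [Group B] (e : A ≃* B) (x : A) :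
    e x ∈ commutator B ↔ x ∈ commutator A := by
  have h : (commutator A).map e.toMonoidHom = commutator B := by
    rw [commutator_def, commutator_def, Subgroup.map_commutator,
      Subgroup.map_top_of_surjective _ e.surjective]
  rw [← h]
  exact Subgroup.mem_map_iff_mem e.injective

theorem mem_omega_iff_good {ι : Type} [Fintype ι] [DecidableEq ι] {Q : QuadraticForm F (ι → F)}
    (h2 : (2 : F) ≠ 0) (hnd : NDPolar Q) (hι : 2 ≤ Fintype.card ι) (g : ↥(Cfsg.isometryGroup F ⇑Q)) :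
    g ∈ Cfsg.Omega F ⇑Q ↔ Good (CfsgLib.OrthCrit.toOrth Q g) := by
  rw [← mem_commutator_iff_good h2 hnd (by simpa using hι), mem_commutator_mulEquiv]

theorem center_omega_odd (h2 : (2 : F) ≠ 0) :
    Subgroup.center ↥(Cfsg.Omega F (Cfsg.quadFormOdd 4 F)) = ⊥ := by
  open CfsgLib.Classical.Quad in
  have hodd := (two_ne_zero_iff_odd (F := F)).1 h2
  have hr := CfsgLib.Classical.Quad.ringChar_ne_two_of_odd hodd
  have hnd := CfsgLib.Classical.Quad.ndPolar_hypForm (CfsgLib.Classical.Quad.ndPolar_lineForm (F := F) h2) 4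
  let P := CfsgLib.Classical.Quad.hypFrameKernel (R := lineForm F) (m := 4) (by norm_num) 1
    (by simp [CfsgLib.Classical.Quad.lineForm_apply])
  have hz : Nat.card (Subgroup.center
      (CfsgLib.Classical.Quad.siegelGroup (CfsgLib.Classical.Quad.hypForm 4 (lineForm F)))) = 1 := by
    refine CfsgLib.Classical.Quad.card_center_eq_one hnd P fun h => ?_
    have h1 := ((CfsgLib.Classical.Quad.siegel_index_odd hnd P hr one_ne_zero).2 _).1 h
    have h3 := congrArg Units.val h1.1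
    rw [CfsgLib.Classical.Quad.detHom_negOne, Units.val_one] at h3
    have hfr : finrank F (((Fin 4 → F) × (Fin 4 → F)) × (Unit → F)) = 9 := by simp
    rw [hfr, Odd.neg_one_pow (⟨4, by norm_num⟩ : Odd 9)] at h3
    exact absurd (by linear_combination -h3 : (2 : F) = 0) h2
  let e := (CfsgLib.Classical.Quad.commutatorEquiv (CfsgLib.Classical.Quad.isometryEquivModel
    (CfsgLib.Classical.Quad.oddEquiv 4 F) (CfsgLib.Classical.Quad.oddEquiv_spec 4))).trans
    (MulEquiv.subgroupCongr (CfsgLib.Classical.Quad.commutator_orth_eq hnd P))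
  have hmap := CfsgLib.Classical.Quad.map_center_mulEquiv e
  rw [Subgroup.card_eq_one] at hz
  rw [hz, Subgroup.map_eq_bot_iff_of_injective _ e.injective] at hmap
  exact hmap

theorem range_orderOf_pomega_odd (h2 : (2 : F) ≠ 0) :
    Set.range (orderOf : Cfsg.POmega F (Cfsg.quadFormOdd 4 F) → ℕ) =
      {n | ∃ g : Orth (oddForm 4 F), Good g ∧ orderOf g = n} := by
  show Set.range (orderOf : Cfsg.POmega F ⇑(oddForm 4 F) → ℕ) = _
  have hc : Subgroup.center ↥(Cfsg.Omega F ⇑(oddForm 4 F)) = ⊥ := center_omega_odd h2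
  have hinj : Function.Injective
      (QuotientGroup.mk' (Subgroup.center ↥(Cfsg.Omega F ⇑(oddForm 4 F)))) := by
    rw [← MonoidHom.ker_eq_bot_iff, QuotientGroup.ker_mk', hc]
  have hiff : ∀ g, g ∈ Cfsg.Omega F ⇑(oddForm 4 F) ↔ Good (CfsgLib.OrthCrit.toOrth (oddForm 4 F) g) :=
    mem_omega_iff_good h2 (CfsgLib.OrthCrit.ndPolar_oddForm h2 4) (by simp)
  let e := CfsgLib.OrthCrit.toOrth (oddForm 4 F)
  ext n
  constructor
  · rintro ⟨x, rfl⟩
    obtain ⟨g, rfl⟩ := QuotientGroup.mk'_surjective _ x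
    refine ⟨e g.1, (hiff g.1).1 g.2, ?_⟩
    rw [orderOf_injective _ hinj, e.orderOf_eq, Subgroup.orderOf_coe]
  · rintro ⟨g, hg, rfl⟩
    refine ⟨QuotientGroup.mk' _ ⟨e.symm g, (hiff (e.symm g)).2 (by rwa [e.apply_symm_apply])⟩, ?_⟩
    rw [orderOf_injective _ hinj]
    exact (Subgroup.orderOf_mk _ _).trans (e.symm.orderOf_eq g)

theorem range_orderOf_nine_eq (h2 : (2 : F) ≠ 0) {a b : F}
    (hab : CfsgLib.Classical.Quad.IsAniso a b)
    (φ : ↥(Cfsg.Omega F ⇑(minusForm 3 F a b)) →*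
      MulAut (Multiplicative (((Fin 3 ⊕ Fin 3) ⊕ Fin 2) → F)))
    (hφ : ∀ h v, φ h (Multiplicative.ofAdd v) =
      Multiplicative.ofAdd ((CfsgLib.OrthCrit.toOrth (minusForm 3 F a b) h.1).1 v)) :
    Set.range (orderOf : Cfsg.POmega F (Cfsg.quadFormOdd 4 F) → ℕ) =
      Set.range (orderOf : (Multiplicative (((Fin 3 ⊕ Fin 3) ⊕ Fin 2) → F)) ⋊[φ]
        ↥(Cfsg.Omega F ⇑(minusForm 3 F a b)) → ℕ) := by
  obtain ⟨e, he⟩ : ∃ e, e = CfsgLib.OrthCrit.toOrth (minusForm 3 F a b) := ⟨_, rfl⟩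
  rw [← he] at hφ
  have hnm : NDPolar (minusForm 3 F a b) :=
    CfsgLib.OrthCrit.ndPolar_minusForm 3 a b hab fun h => absurd h h2
  have hiff : ∀ g, g ∈ Cfsg.Omega F ⇑(minusForm 3 F a b) ↔ Good (e g) :=
    he ▸ mem_omega_iff_good h2 hnm (by simp)
  have hpow : ∀ (h : ↥(Cfsg.Omega F ⇑(minusForm 3 F a b))) (v : ((Fin 3 ⊕ Fin 3) ⊕ Fin 2) → F) (j : ℕ),
      ((⟨Multiplicative.ofAdd v, h⟩ : Multiplicative (((Fin 3 ⊕ Fin 3) ⊕ Fin 2) → F) ⋊[φ] _) ^ j) =
        ⟨Multiplicative.ofAdd (powSum (e h.1) j v), h ^ j⟩ := by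
    intro h v j
    induction j with
    | zero => rfl
    | succ j ih =>
      rw [pow_succ, ih, SemidirectProduct.mul_def]
      simp only [hφ]
      simp only [Subgroup.coe_pow, map_pow]
      rw [powSum, powSum, Finset.sum_range_succ, pow_succ, ofAdd_add]
      rfl
  have hone : ∀ (h : ↥(Cfsg.Omega F ⇑(minusForm 3 F a b))) (v : ((Fin 3 ⊕ Fin 3) ⊕ Fin 2) → F) (j : ℕ),
      ((⟨Multiplicative.ofAdd v, h⟩ : Multiplicative (((Fin 3 ⊕ Fin 3) ⊕ Fin 2) → F) ⋊[φ] _) ^ j = 1) ↔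
        (e h.1 ^ j = 1 ∧ powSum (e h.1) j v = 0) := by
    intro h v j
    rw [hpow, SemidirectProduct.ext_iff]
    show Multiplicative.ofAdd (powSum (e h.1) j v) = 1 ∧ h ^ j = 1 ↔ _
    rw [ofAdd_eq_one, ← map_pow, map_eq_one_iff e e.injective, ← Subgroup.coe_pow, OneMemClass.coe_eq_one]
    exact and_comm
  rw [range_orderOf_pomega_odd h2]
  ext n
  constructor
  · rintro ⟨g, hg, rfl⟩
    obtain ⟨Q', hnd', he', h, w, hh, hk⟩ := xdiv_of_good_nine h2
      (CfsgLib.OrthCrit.ndPolar_oddForm h2 4) (by simp) hg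
    obtain ⟨E, hE⟩ := exists_minus_equiv hnd' (by simp) he' hab
    obtain ⟨x, hx⟩ : ∃ x : Multiplicative (((Fin 3 ⊕ Fin 3) ⊕ Fin 2) → F) ⋊[φ]
        ↥(Cfsg.Omega F ⇑(minusForm 3 F a b)), x = ⟨Multiplicative.ofAdd (E.symm w),
          ⟨e.symm (conjOrth E hE h), (hiff _).2 (by rw [e.apply_symm_apply]; exact (good_conj E hE).2 hh)⟩⟩ :=
      ⟨_, rfl⟩
    have hdvd : orderOf g ∣ orderOf x := by
      have h1 := pow_orderOf_eq_one x
      generalize orderOf x = o at h1 ⊢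
      rw [hx, hone] at h1
      simp only [MulEquiv.apply_symm_apply, powSum_conjOrth, LinearEquiv.apply_symm_apply,
        LinearEquiv.map_eq_zero_iff] at h1
      exact hk o (conjOrth_injective E hE (by rw [map_pow, map_one]; exact h1.1)) h1.2
    haveI := finite_orth (F := F) (minusForm 3 F a b)
    haveI : Finite ↥(Cfsg.isometryGroup F ⇑(minusForm 3 F a b)) := Finite.of_equiv _ e.symm.toEquiv
    haveI : Finite (Multiplicative (((Fin 3 ⊕ Fin 3) ⊕ Fin 2) → F) ⋊[φ]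
        ↥(Cfsg.Omega F ⇑(minusForm 3 F a b))) := Finite.of_equiv _ SemidirectProduct.equivProd.symm
    exact ⟨x ^ (orderOf x / orderOf g), orderOf_pow_orderOf_div (orderOf_pos x).ne' hdvd⟩
  · rintro ⟨⟨v, h⟩, rfl⟩
    obtain ⟨v, rfl⟩ : ∃ u, Multiplicative.ofAdd u = v := ⟨v.toAdd, rfl⟩
    obtain ⟨g', hg', h1, h2'⟩ := exists_good_of_ext h2 hnm (by simp) ((hiff h.1).1 h.2) v
    haveI := finite_orth (F := F) (oddForm 4 F)
    refine ⟨g' ^ (orderOf g' / _), hg'.pow _, orderOf_pow_orderOf_div (orderOf_pos g').ne'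
      (orderOf_dvd_of_pow_eq_one ((hone h v _).2 ⟨h1, h2'⟩))⟩

end CfsgLib.Spectrum.NineOdd
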