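import Cfsg.Agent.Lib.Spectrum.NineOdd.Types

/-!
Tori and unipotent elements with known spinor character, and their combinations.
-/

set_option autoImplicit false
set_option linter.unusedSectionVars false
set_option linter.style.haveILetI false

namespace CfsgLib.Spectrum.NineOdd

open Module QuadraticMap Polynomial
open CfsgLib.Classical.Quad (NDPolar Orth orth_ext binForm binForm_apply IsAniso lineForm)
open CfsgLib.Spectrum.EightEven (HasExcess prodOrth prodOrth_injective conjOrth conjOrth_apply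
  conjOrth_injective exists_pack mkOrth powSum powSum_mul powSum_prodOrth powSum_conjOrth pairForm)
open CfsgLib.OrthCrit (plusForm minusForm oddForm)

variable {F : Type*} [Field F] [Fintype F]
variable {V : Type*} [AddCommGroup V] [Module F V] [Finite V] [FiniteDimensional F V]
variable {Q : QuadraticForm F V}

/-- A space of dimension `n` and excess `e` with a good isometry of order divisible by `N`. -/
def HasGood (F : Type*) [Field F] [Fintype F] (n : ℕ) (e : ℤ) (N : ℕ) : Prop :=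
  ∃ Q : QuadraticForm F (Fin n → F), NDPolar Q ∧ HasExcess Q e ∧ ∃ g : Orth Q, Good g ∧ N ∣ orderOf g

/-- A space of dimension `n` and excess `e` with a bad isometry of order divisible by `N`. -/
def HasBad (F : Type*) [Field F] [Fintype F] (n : ℕ) (e : ℤ) (N : ℕ) : Prop :=
  ∃ Q : QuadraticForm F (Fin n → F), NDPolar Q ∧ HasExcess Q e ∧ ∃ g : Orth Q, Bad g ∧ N ∣ orderOf g

/-- `N` divides the order of an element of the extension of `Ω⁻(8, q)` by its module. -/
def XDiv (F : Type*) [Field F] [Fintype F] (N : ℕ) : Prop :=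
  ∃ Q : QuadraticForm F (Fin 8 → F), NDPolar Q ∧ HasExcess Q (-((Fintype.card F : ℤ) ^ 4)) ∧
    ∃ (g : Orth Q) (w : Fin 8 → F), Good g ∧ ∀ k, g ^ k = 1 → powSum g k w = 0 → N ∣ k

theorem HasGood.mk' {n : ℕ} {e : ℤ} {N : ℕ} (hdim : finrank F V = n) (hnd : NDPolar Q) (he : HasExcess Q e)
    (g : Orth Q) (hg : Good g) (hN : N ∣ orderOf g) : HasGood F n e N := by
  obtain ⟨Q', E, hE⟩ := exists_pack hdim Q
  exact ⟨Q', CfsgLib.Spectrum.EightEven.NDPolar.of_equiv hnd E hE, he.of_equiv E hE, conjOrth E hE g,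
    (good_conj E hE).2 hg, by rwa [orderOf_injective _ (conjOrth_injective E hE)]⟩

theorem HasBad.mk' {n : ℕ} {e : ℤ} {N : ℕ} (hdim : finrank F V = n) (hnd : NDPolar Q) (he : HasExcess Q e)
    (g : Orth Q) (hg : Bad g) (hN : N ∣ orderOf g) : HasBad F n e N := by
  obtain ⟨Q', E, hE⟩ := exists_pack hdim Q
  exact ⟨Q', CfsgLib.Spectrum.EightEven.NDPolar.of_equiv hnd E hE, he.of_equiv E hE, conjOrth E hE g,
    ⟨by rw [detHom_conj]; exact hg.1, by rw [levelSign_conj]; exact hg.2⟩,
    by rwa [orderOf_injective _ (conjOrth_injective E hE)]⟩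

theorem HasBad.prod (h2 : (2 : F) ≠ 0) {n₁ n₂ n N₁ N₂ : ℕ} {e₁ e₂ e : ℤ} (h₁ : HasBad F n₁ e₁ N₁)
    (h₂ : HasBad F n₂ e₂ N₂) (hn : n₁ + n₂ = n) (he : e₁ * e₂ = e) : HasGood F n e (Nat.lcm N₁ N₂) := by
  obtain ⟨Q₁, hn₁, he₁, g, hg, hgo⟩ := h₁
  obtain ⟨Q₂, hn₂, he₂, h, hh, hho⟩ := h₂
  refine HasGood.mk' (by simp [hn]) (CfsgLib.Spectrum.EightEven.ndPolar_prod hn₁ hn₂) (he ▸ he₁.prod he₂)
    (prodOrth (g, h)) (Bad.prod h2 hn₁ hn₂ hg hh) ?_
  rw [orderOf_injective _ prodOrth_injective, Prod.orderOf]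
  exact lcm_dvd (hgo.trans (dvd_lcm_left _ _)) (hho.trans (dvd_lcm_right _ _))

theorem XDiv.of_dvd {M N : ℕ} (h : XDiv F N) (hMN : M ∣ N) : XDiv F M := by
  obtain ⟨Q, hnd, he, g, w, hg, hk⟩ := h
  exact ⟨Q, hnd, he, g, w, hg, fun k h1 h2 => hMN.trans (hk k h1 h2)⟩

theorem XDiv.of_good {N : ℕ} (h : HasGood F 8 (-((Fintype.card F : ℤ) ^ 4)) N) : XDiv F N := by
  obtain ⟨Q, hnd, he, g, hg, hN⟩ := h
  exact ⟨Q, hnd, he, g, 0, hg, fun k h1 _ => hN.trans (orderOf_dvd_of_pow_eq_one h1)⟩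

theorem geom_sum_char_pow (p : ℕ) [Fact p.Prime] [CharP F p] (i : ℕ) :
    (∑ j ∈ Finset.range (p ^ i), (X : F[X]) ^ j) = (X - 1) ^ (p ^ i - 1) := by
  have hX0 : (X - 1 : F[X]) ≠ 0 := by simpa using X_sub_C_ne_zero (1 : F)
  apply mul_right_cancel₀ hX0
  rw [geom_sum_mul, ← pow_succ, Nat.sub_add_cancel (Nat.one_le_pow _ _ (Nat.Prime.pos Fact.out)),
    sub_pow_char_pow, one_pow]

theorem powSum_eq_aeval (g : Orth Q) (k : ℕ) (w : V) :
    powSum g k w = aeval (endo Q g) (∑ j ∈ Finset.range k, (X : F[X]) ^ j) w := by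
  rw [powSum, map_sum, LinearMap.sum_apply]
  refine Finset.sum_congr rfl fun i _ => ?_
  rw [Polynomial.aeval_X_pow, ← map_pow, endo_apply]

theorem powSum_char_pow (p : ℕ) [Fact p.Prime] [CharP F p] (g : Orth Q) (i : ℕ) (w : V) :
    powSum g (p ^ i) w = ((endo Q g - 1) ^ (p ^ i - 1)) w := by
  rw [powSum_eq_aeval, geom_sum_char_pow]
  simp

theorem powSum_add (g : Orth Q) (k : ℕ) (v w : V) : powSum g k (v + w) = powSum g k v + powSum g k w := by
  simp only [powSum, map_add, Finset.sum_add_distrib]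

theorem powSum_smul (g : Orth Q) (k : ℕ) (c : F) (w : V) : powSum g k (c • w) = c • powSum g k w := by
  simp only [powSum, map_smul, Finset.smul_sum]

theorem pow_char_pow_eq_one (p : ℕ) [Fact p.Prime] [CharP F p] [Nontrivial V] {g : Orth Q} {i n : ℕ}
    (hn : (endo Q g - 1) ^ n = 0) (hi : n ≤ p ^ i) : g ^ p ^ i = 1 := by
  refine endo_injective ?_
  rw [map_pow, map_one]
  haveI : CharP (Module.End F V) p := charP_of_injective_algebraMap (algebraMap F _).injective p
  have h := sub_pow_char_pow_of_commute (p := p) (n := i) (Commute.one_right (endo Q g))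
  rw [one_pow, pow_eq_zero_of_le hi hn] at h
  exact sub_eq_zero.1 h.symm

/-- A power of `p` whose norm map does not vanish. -/
theorem dvd_of_powSum (p : ℕ) [Fact p.Prime] [CharP F p] [Nontrivial V] {g : Orth Q} {j : ℕ} {w : V}
    (hj : 1 ≤ j) {e : ℕ} (he : g ^ p ^ e = 1) (hw : ((endo Q g - 1) ^ (p ^ (j - 1) - 1)) w ≠ 0) {k : ℕ}
    (hk : g ^ k = 1) (hs : powSum g k w = 0) : p ^ j ∣ k := by
  have hp : p.Prime := Fact.out
  obtain ⟨i, -, hi⟩ := (Nat.dvd_prime_pow hp).1 (orderOf_dvd_of_pow_eq_one he)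
  have hik : p ^ i ∣ k := hi ▸ orderOf_dvd_of_pow_eq_one hk
  by_cases hij : j ≤ i
  · exact (pow_dvd_pow p hij).trans hik
  have hgi : g ^ p ^ i = 1 := hi ▸ pow_orderOf_eq_one g
  have hi' : i = j - 1 := by
    by_contra hne
    have hlt : p ^ i ≤ p ^ (j - 1) - 1 := by
      have := Nat.pow_lt_pow_right hp.one_lt (show i < j - 1 by omega)
      omega
    haveI : CharP (Module.End F V) p := charP_of_injective_algebraMap (algebraMap F _).injective p
    refine hw ?_
    have h0 : (endo Q g - 1) ^ p ^ i = 0 := by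
      rw [sub_pow_char_pow_of_commute (p := p) (n := i) (Commute.one_right (endo Q g)), one_pow, ← map_pow, hgi, map_one, sub_self]
    rw [pow_eq_zero_of_le hlt h0]
    rfl
  obtain ⟨l, rfl⟩ := hik
  rw [powSum_mul g hgi, powSum_char_pow, hi', ← Nat.cast_smul_eq_nsmul F] at hs
  rw [hi', show j = j - 1 + 1 by omega, pow_succ]
  refine Nat.mul_dvd_mul (by rw [Nat.add_sub_cancel]) ?_
  exact (CharP.cast_eq_zero_iff F p l).1 ((smul_eq_zero.1 hs).resolve_right hw)

theorem card_smul_level (Q : QuadraticForm F V) {c : F} (hc : c ≠ 0) (d : F) :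
    Nat.card {x // (c • Q) x = d} = Nat.card {x // Q x = d / c} := by
  refine Nat.card_congr (Equiv.subtypeEquivRight fun x => ?_)
  rw [QuadraticMap.smul_apply, smul_eq_mul, eq_div_iff hc, mul_comm]

theorem hasExcess_smul {Q : QuadraticForm F V} {e : ℤ} (h : HasExcess Q e) {c : F} (hc : c ≠ 0) :
    HasExcess (c • Q) e := by
  intro d hd
  rw [card_smul_level Q hc, card_smul_level Q hc, zero_div]
  exact h _ (div_ne_zero hd hc)

theorem exists_diag_excess (h2 : (2 : F) ≠ 0) {s : ℤ} (hs : s = 1 ∨ s = -1) :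
    ∃ b : F, b ≠ 0 ∧ HasExcess (binForm (0 : F) b) (s * Fintype.card F) := by
  obtain ⟨a', b', hab'⟩ := exists_aniso' (F := F)
  rcases hs with rfl | rfl
  · have hnd : NDPolar (binForm (0 : F) (-1)) := by
      intro u hu
      have h0 := hu ![1, 0]
      have h1 := hu ![0, 1]
      simp [CfsgLib.Classical.Quad.polar_binForm, h2] at h0 h1
      funext i
      fin_cases i <;> simp [h0, h1]
    refine ⟨-1, by simp, ?_⟩
    rcases excess_cases (binForm (0 : F) (-1)) hnd (m := 1) (by simp) hab' with h | ⟨h, -⟩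
    · simpa using h
    · exfalso
      have hz := card_zeros h
      rw [pow_one, card_module (F := F) (V := Fin 2 → F), Module.finrank_fin_fun] at hz
      have h1 : Nat.card {x : Fin 2 → F // binForm (0 : F) (-1) x = 0} = 1 := by
        have hq := Fintype.one_lt_card (α := F)
        push_cast at hz
        nlinarith
      obtain ⟨hsub, -⟩ := Nat.card_eq_one_iff_unique.1 h1
      have hh := congrArg (fun x : {x : Fin 2 → F // binForm (0 : F) (-1) x = 0} => x.1 0)
        (Subsingleton.elim (α := {x : Fin 2 → F // binForm (0 : F) (-1) x = 0})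
          ⟨![1, 1], by simp [binForm_apply]⟩ ⟨0, QuadraticMap.map_zero _⟩)
      simp at hh
  · obtain ⟨ν, hν, hns⟩ := CfsgLib.OrthSpinor.exists_nonsquare' h2
    refine ⟨-ν, neg_ne_zero.2 hν, ?_⟩
    rw [neg_one_mul]
    refine hasExcess_binForm fun z₁ z₂ h => ?_
    have hz : z₂ = 0 := by
      by_contra hz
      exact hns ⟨z₁ / z₂, by field_simp; linear_combination -h⟩
    refine ⟨?_, hz⟩
    rw [hz] at h
    simpa using h

/-- An even space of either type with a unipotent element of large norm map. -/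
theorem exists_unipotent (h2 : (2 : F) ≠ 0) (p : ℕ) [Fact p.Prime] [CharP F p] {d j : ℕ} {s : ℤ}
    (hs : s = 1 ∨ s = -1) (hj : 1 ≤ j) (hpj : p ^ (j - 1) ≤ 2 * d + 1) :
    ∃ Q : QuadraticForm F (Fin (2 * (d + 1)) → F), NDPolar Q ∧
      HasExcess Q (s * (Fintype.card F : ℤ) ^ (d + 1)) ∧
      ∃ (r : Orth Q) (w : Fin (2 * (d + 1)) → F), Good r ∧ (∃ e, r ^ p ^ e = 1) ∧
        ∀ k, r ^ k = 1 → powSum r k w = 0 → p ^ j ∣ k := by
  obtain ⟨r, ⟨e, hre⟩, hr⟩ := exists_regular_chain (F := F) h2 p d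
  have hnc := ndPolar_chainForm (F := F) h2 d
  obtain ⟨c, hc, E, hE⟩ := CfsgLib.RootCount.classify_odd h2 (chainForm F d) hnc
    (m := d) (by simp)
  obtain ⟨b, hb, hexb⟩ := exists_diag_excess h2 hs
  have hW : (endo (chainForm F d) r - 1) ^ (p ^ (j - 1) - 1) ≠ 0 :=
    fun h => hr (pow_eq_zero_of_le (by omega) h)
  obtain ⟨w, hw⟩ : ∃ w, ((endo (chainForm F d) r - 1) ^ (p ^ (j - 1) - 1)) w ≠ 0 := by
    by_contra hcon
    push Not at hcon
    exact hW (LinearMap.ext hcon)
  haveI : Nontrivial (Fin (2 * d + 1) → F) := inferInstance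
  let L : QuadraticForm F (Unit → F) := (c * b) • lineForm F
  have hnL : NDPolar L := by
    intro u hu
    funext i
    have h := hu 1
    simp [L, polar, QuadraticMap.smul_apply, CfsgLib.Classical.Quad.lineForm_apply] at h
    have h' : (c * b * 2) * u () = 0 := by linear_combination h
    exact (mul_eq_zero.1 h').resolve_left (mul_ne_zero (mul_ne_zero hc hb) h2)
  -- the excess of the sum
  let T : ((Unit ⊕ (Fin d ⊕ Fin d) → F) × (Unit → F)) →ₗ[F] ((Fin d ⊕ Fin d → F) × (Fin 2 → F)) :=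
    { toFun := fun x => (Sum.elim (fun i => c * x.1 (.inr (.inl i))) (fun i => x.1 (.inr (.inr i))),
        ![x.1 (.inl ()), x.2 ()])
      map_add' := fun x y => Prod.ext (funext fun i => by rcases i with i | i <;> simp [mul_add])
        (funext fun i => by fin_cases i <;> simp)
      map_smul' := fun a x => Prod.ext (funext fun i => by rcases i with i | i <;> simp [mul_left_comm])
        (funext fun i => by fin_cases i <;> simp) }
  have hT : Function.Injective T := by
    rw [injective_iff_map_eq_zero]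
    intro x hx
    refine Prod.ext (funext fun i => ?_) (funext fun i => ?_)
    · rcases i with i | (i | i)
      · simpa [T] using congrFun (congrArg Prod.snd hx) 0
      · simpa [T, hc] using congrFun (congrArg Prod.fst hx) (.inl i)
      · simpa [T] using congrFun (congrArg Prod.fst hx) (.inr i)
    · simpa [T] using congrFun (congrArg Prod.snd hx) 1
  let E' : ((Fin (2 * d + 1) → F) × (Unit → F)) ≃ₗ[F] ((Fin d ⊕ Fin d → F) × (Fin 2 → F)) :=
    (LinearEquiv.prodCongr E.symm (LinearEquiv.refl F (Unit → F))).trans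
      (T.linearEquivOfInjective hT (by simp; ring))
  have hE' : ∀ x, ((plusForm d F).prod (c • binForm (0 : F) b)) (E' x) = ((chainForm F d).prod L) x := by
    rintro ⟨x, y⟩
    obtain ⟨v, rfl⟩ := E.surjective x
    show ((plusForm d F).prod (c • binForm (0 : F) b)) (T (E.symm (E v), y)) = _
    rw [E.symm_apply_apply, QuadraticMap.prod_apply, QuadraticMap.prod_apply, hE]
    simp [T, L, Cfsg.quadFormPlus, Cfsg.quadFormOdd, binForm_apply, QuadraticMap.smul_apply,
      CfsgLib.Classical.Quad.lineForm_apply]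
    ring_nf
    simp only [Finset.mul_sum, mul_assoc]
  have hexc : HasExcess ((chainForm F d).prod L) (s * (Fintype.card F : ℤ) ^ (d + 1)) := by
    have h := ((hasExcess_plusForm (F := F) d).prod (hasExcess_smul hexb hc)).of_equiv E' hE'
    convert h using 1
    ring
  have hnd := CfsgLib.Spectrum.EightEven.ndPolar_prod hnc hnL
  obtain ⟨Q', P, hP⟩ := exists_pack (n := 2 * (d + 1)) (by simp; ring) ((chainForm F d).prod L)
  refine ⟨Q', CfsgLib.Spectrum.EightEven.NDPolar.of_equiv hnd P hP, hexc.of_equiv P hP,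
    conjOrth P hP (prodOrth (r, (1 : Orth L))), P.symm (w, 0), ?_, ⟨e, ?_⟩, fun k hk hsum => ?_⟩
  · exact (good_conj P hP).2 (Good.prod h2 hnc hnL (good_of_pow_char h2 hre) Good.one)
  · rw [← map_pow, ← map_pow, Prod.pow_mk, hre, one_pow, ← Prod.one_eq_mk, map_one, map_one]
  · rw [← map_pow, ← map_pow, Prod.pow_mk, one_pow] at hk
    have hk' : r ^ k = 1 := congrArg Prod.fst (prodOrth_injective (conjOrth_injective P hP
      (hk.trans (by rw [← map_one (conjOrth P hP), ← map_one prodOrth]) :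
        conjOrth P hP (prodOrth (r ^ k, (1 : Orth L))) = conjOrth P hP (prodOrth 1))))
    rw [powSum_conjOrth, LinearEquiv.apply_symm_apply, LinearEquiv.map_eq_zero_iff] at hsum
    have hs' : powSum r k w = 0 := by
      have h1 := congrArg Prod.fst hsum
      simp only [powSum, Prod.fst_sum, Prod.fst_zero] at h1 ⊢
      rw [← h1]
      exact Finset.sum_congr rfl fun i _ => by rw [← map_pow, Prod.pow_mk]; rfl
    exact dvd_of_powSum p hj hre hw hk' hs'

/-- A good element on a smaller space together with a unipotent one. -/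
theorem XDiv.of_unipotent (h2 : (2 : F) ≠ 0) (p : ℕ) [Fact p.Prime] [CharP F p] {c d j N : ℕ} {s : ℤ}
    (hs : s = 1 ∨ s = -1) (hj : 1 ≤ j) (hpj : p ^ (j - 1) ≤ 2 * d + 1) (hcd : c + d = 3)
    (h : HasGood F (2 * c) (s * (Fintype.card F : ℤ) ^ c) N) : XDiv F (Nat.lcm N (p ^ j)) := by
  obtain ⟨Q₁, hn₁, he₁, g, hg, hgo⟩ := h
  obtain ⟨Q₂, hn₂, he₂, r, w, hr, -, hrk⟩ := exists_unipotent h2 p (d := d) (j := j) (s := -s)
    (by rcases hs with rfl | rfl <;> simp) hj hpj
  have hnd := CfsgLib.Spectrum.EightEven.ndPolar_prod hn₁ hn₂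
  obtain ⟨Q', P, hP⟩ := exists_pack (n := 8) (by simp; omega) (Q₁.prod Q₂)
  refine ⟨Q', CfsgLib.Spectrum.EightEven.NDPolar.of_equiv hnd P hP, ?_, conjOrth P hP (prodOrth (g, r)),
    P.symm (0, w), (good_conj P hP).2 (Good.prod h2 hn₁ hn₂ hg hr), fun k hk hsum => ?_⟩
  · have he := (he₁.prod he₂).of_equiv P hP
    convert he using 1
    rw [show (4 : ℕ) = c + (d + 1) by omega, pow_add]
    rcases hs with rfl | rfl <;> ring
  · rw [← map_pow, ← map_pow, Prod.pow_mk] at hk
    have hk' := prodOrth_injective (conjOrth_injective P hP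
      (hk.trans (by rw [← map_one (conjOrth P hP), ← map_one prodOrth]) :
        conjOrth P hP (prodOrth (g ^ k, r ^ k)) = conjOrth P hP (prodOrth 1)))
    rw [powSum_conjOrth, LinearEquiv.apply_symm_apply, LinearEquiv.map_eq_zero_iff, powSum_prodOrth] at hsum
    exact lcm_dvd (hgo.trans (orderOf_dvd_of_pow_eq_one (congrArg Prod.fst hk')))
      (hrk k (congrArg Prod.snd hk') (congrArg Prod.snd hsum))

/-! ### Tori -/

theorem level_torus (Q : QuadraticForm F V) {c : ℕ} (hc : 1 ≤ c) {s : ℤ}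
    (hdim : finrank F V = 2 * c) (he : HasExcess Q (s * (Fintype.card F : ℤ) ^ c)) {x : F} (hx : x ≠ 0) :
    (Nat.card {v // Q v = x} : ℤ) = (Fintype.card F : ℤ) ^ (c - 1) * ((Fintype.card F : ℤ) ^ c - s) := by
  have h := card_levels he hx
  rw [card_module (F := F) (V := V), hdim, Nat.cast_pow, two_mul, pow_add] at h
  have hq : (Fintype.card F : ℤ) ≠ 0 := by exact_mod_cast Fintype.card_ne_zero
  obtain ⟨i, rfl⟩ : ∃ i, c = i + 1 := ⟨c - 1, by omega⟩
  rw [Nat.add_sub_cancel]
  apply mul_left_cancel₀ hq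
  rw [h]
  ring

theorem odd_card (h2 : (2 : F) ≠ 0) : Odd (Fintype.card F) := by
  rw [Nat.odd_iff]
  exact FiniteField.odd_card_of_char_ne_two fun h => h2 (by
    haveI := ringChar.of_eq h
    exact CharTwo.two_eq_zero)

/-- A semiregular isometry of even order on a torus space is bad. -/
theorem bad_torus (h2 : (2 : F) ≠ 0) (hnd : NDPolar Q) {c : ℕ} (hc : 1 ≤ c) {s : ℤ} {M : ℕ}
    (hM : (M : ℤ) = (Fintype.card F : ℤ) ^ c - s) (hMe : Even M) (hM0 : 0 < M)
    (hdim : finrank F V = 2 * c) (he : HasExcess Q (s * (Fintype.card F : ℤ) ^ c)) (g : Orth Q)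
    (h1 : g ^ M = 1) (hfree : ∀ x ≠ 0, ∀ j : ℕ, (g ^ j).1 x = x → M ∣ j) : Bad g := by
  refine bad_of_semiregular h2 hnd hMe hM0 h1 hfree fun x hx =>
    ⟨Fintype.card F ^ (c - 1), (odd_card h2).pow, ?_⟩
  have h := level_torus Q hc hdim he hx
  rw [← hM, ← Nat.cast_pow, ← Nat.cast_mul] at h
  rw [mul_comm]
  exact_mod_cast h

theorem hasBad_split (h2 : (2 : F) ≠ 0) {c : ℕ} (hc : 1 ≤ c) :
    HasBad F (2 * c) ((Fintype.card F : ℤ) ^ c) (Fintype.card F ^ c - 1) := by
  obtain ⟨p, hp⟩ := CharP.exists F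
  haveI : Fact p.Prime := ⟨CharP.char_is_prime F p⟩
  haveI : NeZero c := ⟨by omega⟩
  let K := FiniteField.Extension F p c
  obtain ⟨ν, hν⟩ := CfsgLib.Forms.exists_dual_eq (⊥ : Submodule F K) (x := 1) (by simp) (1 : F)
  let B : K →ₗ[F] K →ₗ[F] F := (LinearMap.mul F K).compr₂ ν
  have hl : ∀ x : K, (∀ y, B x y = 0) → x = 0 := fun x h => by
    by_contra hx
    have := h x⁻¹
    simp [B, mul_inv_cancel₀ hx, hν.2] at this
  have hr : ∀ y : K, (∀ x, B x y = 0) → y = 0 := fun y h => hl y fun x => by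
    simpa [B, mul_comm] using h x
  obtain ⟨γ, hγ⟩ := IsCyclic.exists_ofOrder_eq_natCard (α := Kˣ)
  have hcard : Nat.card K = Fintype.card F ^ c := by
    rw [FiniteField.natCard_extension, Nat.card_eq_fintype_card]
  rw [Nat.card_units, hcard] at hγ
  let f : Kˣ →* Orth (pairForm B) :=
    { toFun := fun u => ⟨(LinearEquiv.prodCongr
        (LinearEquiv.ofLinearMap (LinearMap.mulLeft F (u : K)) (LinearMap.mulLeft F (↑u⁻¹ : K))
          (LinearMap.ext fun x => by simp) (LinearMap.ext fun x => by simp))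
        (LinearEquiv.ofLinearMap (LinearMap.mulLeft F (↑u⁻¹ : K)) (LinearMap.mulLeft F (u : K))
          (LinearMap.ext fun x => by simp) (LinearMap.ext fun x => by simp))), fun v => by
            show ν ((u : K) * v.1 * (↑u⁻¹ * v.2)) = ν (v.1 * v.2)
            rw [mul_mul_mul_comm, Units.mul_inv, one_mul]⟩
      map_one' := orth_ext fun x => by simp
      map_mul' := fun u v => orth_ext fun x => by simp [mul_comm, mul_left_comm] }
  have hf : ∀ (u : Kˣ) (x : K × K), (f u).1 x = ((u : K) * x.1, (↑u⁻¹ : K) * x.2) := fun u x => rfl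
  have hnd := CfsgLib.Spectrum.EightEven.ndPolar_pairForm hl hr
  have he : HasExcess (pairForm B) ((Fintype.card F : ℤ) ^ c) := by
    have := CfsgLib.Spectrum.EightEven.hasExcess_pairForm hl
    rwa [hcard, Nat.cast_pow] at this
  have hdim : finrank F (K × K) = 2 * c := by rw [finrank_prod, FiniteField.finrank_extension, two_mul]
  have hfinj : Function.Injective f := fun u v h => Units.ext (by
    simpa [hf] using congrArg Prod.fst (congrArg (fun k : Orth (pairForm B) => k.1 (1, 0)) h))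
  have hq1 : 1 < Fintype.card F ^ c := Nat.one_lt_pow (by omega) Fintype.one_lt_card
  refine HasBad.mk' hdim hnd he (f γ) ?_ (by rw [orderOf_injective f hfinj, hγ])
  refine bad_torus h2 hnd hc (s := 1) (M := Fintype.card F ^ c - 1) (by push_cast [hq1.le]; ring)
    (Nat.Odd.sub_odd (odd_card h2).pow odd_one) (by omega) hdim (by rwa [one_mul]) _
    (by rw [← map_pow, ← hγ, pow_orderOf_eq_one, map_one]) fun x hx j hj => ?_
  rw [← map_pow, hf] at hj
  rw [← hγ]
  refine orderOf_dvd_of_pow_eq_one ?_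
  by_cases h0 : x.1 = 0
  · have h3 := congrArg Prod.snd hj
    have h4 : x.2 ≠ 0 := fun h => hx (Prod.ext h0 h)
    exact inv_eq_one.1 (Units.ext ((mul_eq_right₀ h4).1 h3))
  · exact Units.ext ((mul_eq_right₀ h0).1 (congrArg Prod.fst hj))

theorem hasBad_nonsplit (h2 : (2 : F) ≠ 0) {c : ℕ} (hc : 1 ≤ c) :
    HasBad F (2 * c) (-((Fintype.card F : ℤ) ^ c)) (Fintype.card F ^ c + 1) := by
  obtain ⟨p, hp⟩ := CharP.exists F
  haveI : Fact p.Prime := ⟨CharP.char_is_prime F p⟩
  haveI : NeZero (2 * c) := ⟨by omega⟩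
  let K := FiniteField.Extension F p (2 * c)
  obtain ⟨P, hP⟩ : ∃ P, P = Fintype.card F ^ c := ⟨_, rfl⟩
  have hP1 : 1 < P := hP ▸ Nat.one_lt_pow (by omega) Fintype.one_lt_card
  have hPodd : Odd P := hP ▸ (odd_card h2).pow
  have hK : Nat.card K = P ^ 2 := by
    rw [FiniteField.natCard_extension, Nat.card_eq_fintype_card, hP, ← pow_mul, mul_comm]
  have hPP : (P + 1) * (P - 1) = P ^ 2 - 1 := by simpa using (Nat.sq_sub_sq P 1).symm
  let σ : K →ₐ[F] K := (FiniteField.frobeniusAlgHom F K) ^ c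
  have hσ : ∀ x, σ x = x ^ P := fun x => by
    show (FiniteField.frobeniusAlgHom F K ^ c) x = _
    rw [AlgHom.coe_pow, FiniteField.coe_frobeniusAlgHom, pow_iterate, hP]
  have hσσ : ∀ x, σ (σ x) = x := fun x => by
    haveI := Fintype.ofFinite K
    rw [hσ, hσ, ← pow_mul, ← pow_two, ← hK, Nat.card_eq_fintype_card, FiniteField.pow_card]
  obtain ⟨μ, -, hμ⟩ := CfsgLib.Forms.exists_dual_eq (⊥ : Submodule F K) (x := 1) (by simp) (1 : F)
  let Q : QuadraticForm F K :=
    LinearMap.BilinMap.toQuadraticMap (((LinearMap.mul F K).compr₂ μ).compl₂ σ.toLinearMap)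
  have hQ : ∀ z, Q z = μ (z * σ z) := fun z => rfl
  have h2K : (2 : K) ≠ 0 := by
    rw [← map_ofNat (algebraMap F K) 2]
    exact (_root_.map_ne_zero _).2 h2
  have hnd : NDPolar Q := by
    intro x hx
    by_contra hx0
    have h := hx (σ (2 * x)⁻¹)
    have hexp : polar Q x (σ (2 * x)⁻¹) = μ (x * σ (σ (2 * x)⁻¹) + σ (2 * x)⁻¹ * σ x) := by
      simp only [polar, hQ, map_add, mul_add, add_mul]
      ring
    have h3 : (2 * x)⁻¹ * x = (2 : K)⁻¹ := by rw [mul_inv, mul_assoc, inv_mul_cancel₀ hx0, mul_one]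
    rw [hexp, hσσ, ← map_mul σ, mul_comm x (2 * x)⁻¹, h3, map_inv₀, map_ofNat, ← two_mul,
      mul_inv_cancel₀ h2K, hμ] at h
    exact one_ne_zero h
  obtain ⟨γ, hγ⟩ := IsCyclic.exists_ofOrder_eq_natCard (α := Kˣ)
  rw [Nat.card_units, hK, ← hPP] at hγ
  obtain ⟨α, hα'⟩ : ∃ α, α = γ ^ (P - 1) := ⟨_, rfl⟩
  have hα : orderOf α = P + 1 := by
    rw [hα', orderOf_pow' _ (by omega), hγ, Nat.gcd_mul_left_left, Nat.mul_div_cancel _ (by omega)]
  have hα1 : α ^ (P + 1) = 1 := hα ▸ pow_orderOf_eq_one α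
  let g : Orth Q := mkOrth hnd (LinearMap.mulLeft F (α : K)) fun z => by
    rw [LinearMap.mulLeft_apply, hQ, hQ, map_mul σ, mul_mul_mul_comm, hσ (α : K), ← pow_succ',
      ← Units.val_pow_eq_pow_val, hα1, Units.val_one, one_mul]
  have hgpow : ∀ (j : ℕ) (z : K), (g ^ j).1 z = (α : K) ^ j * z := by
    intro j
    induction j with
    | zero => simp
    | succ j ih =>
      intro z
      rw [pow_succ, CfsgLib.Classical.Quad.mul_apply, CfsgLib.Spectrum.EightEven.mkOrth_apply, ih,
        LinearMap.mulLeft_apply, pow_succ, mul_assoc]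
  have hg1 : g ^ (P + 1) = 1 := orth_ext fun z => by
    rw [hgpow, ← Units.val_pow_eq_pow_val, hα1]; simp
  have hfree : ∀ x ≠ 0, ∀ j : ℕ, (g ^ j).1 x = x → P + 1 ∣ j := by
    intro x hx j hj
    rw [hgpow] at hj
    exact hα ▸ orderOf_dvd_of_pow_eq_one (Units.ext (by simpa using (mul_eq_right₀ hx).1 hj))
  have hdim : finrank F K = 2 * c := FiniteField.finrank_extension F p (2 * c)
  -- the type
  have hexc : HasExcess Q (-(P : ℤ)) := by
    obtain ⟨a, b, hab⟩ := exists_aniso' (F := F)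
    rcases excess_cases Q hnd hdim hab with h | ⟨h, -⟩
    · exfalso
      have hL := level_torus Q hc (s := 1) hdim (by rwa [one_mul]) (one_ne_zero (α := F))
      have hdvd : P + 1 ∣ Nat.card {v // Q v = 1} := by
        classical
        haveI := Fintype.ofFinite K
        let π := CfsgLib.Classical.Quad.levelPerm Q 1 g
        letI := Fintype.ofFinite (CfsgLib.Classical.Quad.Level Q (1 : F))
        have hper : ∀ v j, (π ^ j) v = v ↔ P + 1 ∣ j := by
          intro v j
          have hv0 : (v : K) ≠ 0 := fun h => one_ne_zero (by rw [← v.2, h, QuadraticMap.map_zero])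
          rw [Subtype.ext_iff, ← map_pow]
          refine ⟨hfree _ hv0 j, ?_⟩
          rintro ⟨l, rfl⟩
          rw [pow_mul, hg1, one_pow]
          rfl
        obtain ⟨d, hd, -⟩ := CfsgLib.Spectrum.OrthOddMixed.sign_of_semiregular π hPodd.add_one
          fun v _ j => hper v j
        have hsupp : π.support = Finset.univ := by
          refine Finset.eq_univ_iff_forall.2 fun v => Equiv.Perm.mem_support.2 fun h => ?_
          have := Nat.le_of_dvd one_pos ((hper v 1).1 (by rwa [pow_one]))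
          omega
        rw [hsupp, Finset.card_univ, ← Nat.card_eq_fintype_card] at hd
        exact Dvd.intro d hd.symm
      have hL' : Nat.card {v // Q v = 1} = Fintype.card F ^ (c - 1) * (P - 1) := by
        rw [← Nat.cast_inj (R := ℤ), hL, Nat.cast_mul, Nat.cast_sub hP1.le, hP]
        push_cast
        ring
      rw [hL'] at hdvd
      have hcop : Nat.Coprime (P + 1) (Fintype.card F ^ (c - 1)) := by
        refine Nat.Coprime.pow_right _ ?_
        rw [hP, Nat.coprime_iff_gcd_eq_one]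
        obtain ⟨i, rfl⟩ : ∃ i, c = i + 1 := ⟨c - 1, by omega⟩
        rw [pow_succ, add_comm, Nat.gcd_add_mul_right_left, Nat.gcd_one_left]
      have h3 := hcop.dvd_of_dvd_mul_left hdvd
      have := Nat.le_of_dvd (by omega) h3
      omega
    · rwa [hP, Nat.cast_pow]
  refine HasBad.mk' hdim hnd (by rwa [hP, Nat.cast_pow] at hexc) g ?_ ?_
  · exact bad_torus h2 hnd hc (s := -1) (M := P + 1) (by rw [hP]; push_cast; ring) hPodd.add_one
      (by omega) hdim (by rw [hP, Nat.cast_pow] at hexc; rwa [neg_one_mul]) g hg1 hfree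
  · rw [← hP, ← hα]
    exact orderOf_dvd_of_pow_eq_one (Units.ext (by
      have := hgpow (orderOf g) 1
      rw [pow_orderOf_eq_one] at this
      simpa using this.symm))

end CfsgLib.Spectrum.NineOdd
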