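import Cfsg.Agent.Lib.Spectrum.NineOdd.Char
import Cfsg.Agent.Lib.Classical.Quad.Model

/-!
Excesses of even-dimensional spaces and regular unipotent isometries of odd-dimensional ones.
-/

set_option autoImplicit false
set_option linter.unusedSectionVars false
set_option linter.style.haveILetI false

namespace CfsgLib.Spectrum.NineOdd

open Module QuadraticMap
open CfsgLib.Classical.Quad (NDPolar Orth orth_ext binForm binForm_apply IsAniso)
open CfsgLib.Spectrum.EightEven (HasExcess prodOrth conjOrth conjOrth_apply exists_pack mkOrth)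
open CfsgLib.OrthCrit (plusForm minusForm oddForm)

variable {F : Type*} [Field F] [Fintype F]
variable {V : Type*} [AddCommGroup V] [Module F V] [Finite V] [FiniteDimensional F V]

theorem hasExcess_plusForm (m : ℕ) : HasExcess (plusForm m F) ((Fintype.card F : ℤ) ^ m) := by
  let B : (Fin m → F) →ₗ[F] (Fin m → F) →ₗ[F] F :=
    LinearMap.mk₂ F (fun x y => ∑ i, x i * y i)
      (fun x x' y => by simp [add_mul, Finset.sum_add_distrib])
      (fun c x y => by simp [Finset.mul_sum, mul_assoc])
      (fun x y y' => by simp [mul_add, Finset.sum_add_distrib])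
      (fun c x y => by simp [Finset.mul_sum, mul_left_comm])
  have h := CfsgLib.Spectrum.EightEven.hasExcess_pairForm (B := B) fun x hx => funext fun i => by
    simpa [B, Pi.single_apply] using hx (Pi.single i 1)
  rw [Nat.card_fun, Nat.card_fin, Nat.card_eq_fintype_card, Nat.cast_pow] at h
  exact h.of_equiv (LinearEquiv.sumArrowLequivProdArrow (Fin m) (Fin m) F F) fun v => rfl

theorem hasExcess_binForm {a b : F} (hab : IsAniso a b) :
    HasExcess (binForm a b) (-(Fintype.card F : ℤ)) := by
  intro c hc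
  have h0 : Nat.card {w : Fin 2 → F // binForm a b w = 0} = 1 := by
    rw [Nat.card_eq_one_iff_unique]
    exact ⟨⟨fun x y => Subtype.ext (by rw [CfsgLib.Classical.Quad.binForm_eq_zero hab x.2,
      CfsgLib.Classical.Quad.binForm_eq_zero hab y.2])⟩, ⟨⟨0, QuadraticMap.map_zero _⟩⟩⟩
  rw [h0, CfsgLib.Classical.Quad.card_level_binForm hab hc]
  push_cast
  ring

theorem hasExcess_minusForm (k : ℕ) {a b : F} (hab : IsAniso a b) :
    HasExcess (minusForm k F a b) (-((Fintype.card F : ℤ) ^ (k + 1))) := by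
  have h := ((hasExcess_plusForm (F := F) k).prod (hasExcess_binForm hab)).of_equiv
    (LinearEquiv.sumArrowLequivProdArrow (Fin k ⊕ Fin k) (Fin 2) F F) (Q' := minusForm k F a b) fun v => by
      rw [QuadraticMap.prod_apply, binForm_apply, CfsgLib.OrthCrit.plusForm_apply,
        CfsgLib.OrthCrit.minusForm_apply, Cfsg.quadFormMinus, Cfsg.quadFormPlus]
      rfl
  convert h using 1
  ring

theorem exists_aniso' : ∃ a b : F, IsAniso a b := CfsgLib.RootCount.exists_aniso

/-- Both types are recognised by the excess. -/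
theorem excess_cases (Q : QuadraticForm F V) (hnd : NDPolar Q) {m : ℕ} (hdim : finrank F V = 2 * m)
    {a b : F} (hab : IsAniso a b) :
    HasExcess Q ((Fintype.card F : ℤ) ^ m) ∨ (HasExcess Q (-((Fintype.card F : ℤ) ^ m)) ∧
      ∃ k, m = k + 1 ∧ ∃ E : ((Fin k ⊕ Fin k) ⊕ Fin 2 → F) ≃ₗ[F] V, ∀ v, Q (E v) = minusForm k F a b v) := by
  rcases CfsgLib.RootCount.classify_even Q hnd hdim hab with ⟨-, E, hE⟩ | ⟨-, k, hk, E, hE⟩
  · exact Or.inl ((hasExcess_plusForm m).of_equiv E.symm fun v => by rw [← hE, E.apply_symm_apply])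
  · subst hk
    exact Or.inr ⟨(hasExcess_minusForm k hab).of_equiv E.symm (fun v => by rw [← hE, E.apply_symm_apply]),
      k, rfl, E, hE⟩

theorem exists_minus_equiv {Q : QuadraticForm F V} (hnd : NDPolar Q) (hdim : finrank F V = 8)
    (he : HasExcess Q (-((Fintype.card F : ℤ) ^ 4))) {a b : F} (hab : IsAniso a b) :
    ∃ E : ((Fin 3 ⊕ Fin 3) ⊕ Fin 2 → F) ≃ₗ[F] V, ∀ v, Q (E v) = minusForm 3 F a b v := by
  rcases excess_cases Q hnd (m := 4) hdim hab with h | ⟨-, k, hk, E, hE⟩
  · have := h.unique he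
    have : (0 : ℤ) < (Fintype.card F : ℤ) ^ 4 := pow_pos (by exact_mod_cast Fintype.card_pos) 4
    omega
  · obtain rfl : k = 3 := by omega
    exact ⟨E, hE⟩

theorem card_levels {Q : QuadraticForm F V} {e : ℤ} (he : HasExcess Q e) {c : F} (hc : c ≠ 0) :
    (Fintype.card F : ℤ) * Nat.card {x // Q x = c} = Nat.card V - e := by
  classical
  haveI := Fintype.ofFinite V
  have htot : (Nat.card V : ℤ) = ∑ d : F, (Nat.card {x // Q x = d} : ℤ) := by
    rw [← Nat.card_congr (Equiv.sigmaFiberEquiv (fun x => Q x)), Nat.card_sigma, Nat.cast_sum]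
  have hall : ∀ d : F, (Nat.card {x // Q x = d} : ℤ) = Nat.card {x // Q x = c} + if d = 0 then e else 0 := by
    intro d
    split_ifs with hd
    · subst hd; exact he c hc
    · have h1 := he c hc
      have h2 := he d hd
      omega
  rw [htot, Finset.sum_congr rfl fun d _ => hall d, Finset.sum_add_distrib, Finset.sum_const,
    Finset.sum_ite_eq' Finset.univ (0 : F) fun _ => e, if_pos (Finset.mem_univ _), Finset.card_univ,
    nsmul_eq_mul]
  push_cast
  ring

theorem card_zeros {Q : QuadraticForm F V} {e : ℤ} (he : HasExcess Q e) :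
    (Fintype.card F : ℤ) * Nat.card {x // Q x = 0} = Nat.card V + ((Fintype.card F : ℤ) - 1) * e := by
  linear_combination (Fintype.card F : ℤ) * he 1 one_ne_zero + card_levels he one_ne_zero

theorem card_module : Nat.card V = Fintype.card F ^ finrank F V := by
  rw [Module.natCard_eq_pow_finrank (K := F), Nat.card_eq_fintype_card]

/-- A plane of given type. -/
theorem exists_plane_excess {s : ℤ} (hs : s = 1 ∨ s = -1) :
    ∃ Q : QuadraticForm F (Fin 2 → F), NDPolar Q ∧ HasExcess Q (s * Fintype.card F) := by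
  obtain ⟨a, b, hab⟩ := exists_aniso' (F := F)
  rcases hs with rfl | rfl
  · refine ⟨plusForm 1 F |>.comp (LinearEquiv.funCongrLeft F F (finSumFinEquiv (m := 1) (n := 1))).toLinearMap,
      CfsgLib.Spectrum.EightEven.NDPolar.of_equiv (CfsgLib.OrthCrit.ndPolar_plusForm 1) _ fun _ => rfl, ?_⟩
    rw [one_mul]
    simpa using (hasExcess_plusForm (F := F) 1).of_equiv
      (LinearEquiv.funCongrLeft F F (finSumFinEquiv (m := 1) (n := 1))) fun _ => rfl
  · exact ⟨binForm a b, CfsgLib.Classical.Quad.ndPolar_binForm hab, by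
      rw [neg_one_mul]; exact hasExcess_binForm hab⟩

section unipotent

variable (F)

/-- The anti-diagonal alternating form in dimension `2m + 1`. -/
def chainBil (m : ℕ) : LinearMap.BilinForm F (Fin (2 * m + 1) → F) :=
  LinearMap.mk₂ F (fun x y => ∑ i : Fin (2 * m + 1), (-1 : F) ^ (i : ℕ) * (x i * y i.rev))
    (fun x x' y => by simp [add_mul, mul_add, Finset.sum_add_distrib])
    (fun c x y => by simp [Finset.mul_sum, mul_left_comm, mul_assoc])
    (fun x y y' => by simp [mul_add, Finset.sum_add_distrib])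
    (fun c x y => by simp [Finset.mul_sum, mul_left_comm])

/-- The quadratic form of `chainBil`. -/
def chainForm (m : ℕ) : QuadraticForm F (Fin (2 * m + 1) → F) :=
  LinearMap.BilinMap.toQuadraticMap (chainBil F m)

variable {F}

theorem chainBil_apply {m : ℕ} (x y : Fin (2 * m + 1) → F) :
    chainBil F m x y = ∑ i : Fin (2 * m + 1), (-1 : F) ^ (i : ℕ) * (x i * y i.rev) := rfl

theorem chainBil_symm {m : ℕ} (x y : Fin (2 * m + 1) → F) : chainBil F m x y = chainBil F m y x := by
  rw [chainBil_apply, chainBil_apply]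
  refine Fintype.sum_equiv Fin.revPerm _ _ fun i => ?_
  rw [Fin.revPerm_apply, Fin.rev_rev, mul_comm (x i)]
  congr 1
  rw [neg_one_pow_eq_pow_mod_two, neg_one_pow_eq_pow_mod_two (n := ((i.rev : Fin _) : ℕ))]
  congr 1
  rw [Fin.val_rev]
  omega

theorem polar_chainForm {m : ℕ} (x y : Fin (2 * m + 1) → F) :
    polar (chainForm F m) x y = 2 * chainBil F m x y := by
  rw [chainForm, LinearMap.BilinMap.polar_toQuadraticMap, chainBil_symm y x]
  exact (two_mul _).symm

theorem ndPolar_chainForm (h2 : (2 : F) ≠ 0) (m : ℕ) : NDPolar (chainForm F m) := by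
  intro x hx
  funext i
  have h := hx (Pi.single i.rev 1)
  rw [polar_chainForm, chainBil_apply, Finset.sum_eq_single i (fun j _ hj => by
    rw [Pi.single_eq_of_ne (fun h => hj (Fin.rev_injective h)), mul_zero, mul_zero]) (by simp),
    Pi.single_eq_same, mul_one] at h
  simpa [h2] using h

/-- The shift. -/
def shift (m : ℕ) : Module.End F (Fin (2 * m + 1) → F) where
  toFun x i := if h : i.1 = 0 then 0 else x ⟨i.1 - 1, by omega⟩
  map_add' x y := by
    funext i
    simp only [Pi.add_apply]
    split_ifs <;> simp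
  map_smul' c x := by
    funext i
    simp only [Pi.smul_apply, RingHom.id_apply]
    split_ifs <;> simp

theorem shift_pow_apply {m : ℕ} (j : ℕ) (x : Fin (2 * m + 1) → F) (i : Fin (2 * m + 1)) :
    (shift (F := F) m ^ j) x i = if h : i.1 < j then 0 else x ⟨i.1 - j, by omega⟩ := by
  induction j generalizing i with
  | zero => simp
  | succ j ih =>
    rw [pow_succ', Module.End.mul_apply]
    show (if h : i.1 = 0 then (0 : F) else (shift (F := F) m ^ j) x ⟨i.1 - 1, _⟩) = _
    by_cases h : i.1 = 0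
    · rw [dif_pos h, dif_pos (by omega)]
    · rw [dif_neg h, ih]
      by_cases h' : i.1 < j + 1
      · rw [dif_pos (by simp; omega), dif_pos h']
      · rw [dif_neg (by simp; omega), dif_neg h']
        congr 1
        exact Fin.ext (by simp; omega)

theorem chainBil_shift {m : ℕ} (x y : Fin (2 * m + 1) → F) :
    chainBil F m (shift m x) y + chainBil F m x (shift m y) = 0 := by
  rw [chainBil_apply, chainBil_apply, Fin.sum_univ_succ, Fin.sum_univ_castSucc]
  simp only [shift, LinearMap.coe_mk, AddHom.coe_mk, Fin.val_zero, ↓reduceDIte, zero_mul, mul_zero, zero_add,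
    Fin.rev_last, add_zero]
  rw [← Finset.sum_add_distrib]
  refine Finset.sum_eq_zero fun i _ => ?_
  rw [dif_neg (by simp), dif_neg (by simp [Fin.val_rev]; omega),
    show (⟨(i.succ : ℕ) - 1, by omega⟩ : Fin (2 * m + 1)) = i.castSucc from Fin.ext (by simp),
    show (⟨((i.castSucc).rev : ℕ) - 1, by omega⟩ : Fin (2 * m + 1)) = i.succ.rev from
      Fin.ext (by simp [Fin.val_rev]; omega), Fin.val_succ, pow_succ, Fin.val_castSucc]
  ring

theorem exists_regular_chain (h2 : (2 : F) ≠ 0) (p : ℕ) [Fact p.Prime] [CharP F p] (m : ℕ) :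
    ∃ r : Orth (chainForm F m), (∃ e, r ^ p ^ e = 1) ∧
      (endo (chainForm F m) r - 1) ^ (2 * m) ≠ 0 := by
  obtain ⟨A, hA⟩ : ∃ A, A = shift (F := F) m := ⟨_, rfl⟩
  have hAn : A ^ (2 * m + 1) = 0 := by
    refine LinearMap.ext fun x => funext fun i => ?_
    rw [hA, shift_pow_apply, dif_pos i.2]
    rfl
  obtain ⟨u, hu⟩ := IsNilpotent.isUnit_one_sub (r := A) ⟨_, hAn⟩
  obtain ⟨R, hR⟩ : ∃ R : Module.End F (Fin (2 * m + 1) → F), R = (1 + A) * ↑u⁻¹ := ⟨_, rfl⟩
  have hAu : Commute A ↑u⁻¹ := by
    refine Commute.units_inv_right ?_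
    rw [hu]
    exact (Commute.one_right A).sub_right (Commute.refl A)
  have hsub : R - 1 = ((2 : F) • A) * ↑u⁻¹ := by
    have h1 : (1 : Module.End F (Fin (2 * m + 1) → F)) = (1 - A) * ↑u⁻¹ := by rw [← hu, Units.mul_inv]
    rw [hR]
    nth_rewrite 2 [h1]
    rw [← sub_mul]
    congr 1
    rw [two_smul]; abel
  have hQ : ∀ x, chainForm F m (R x) = chainForm F m x := by
    intro x
    obtain ⟨y, hy⟩ : ∃ y, y = (↑u⁻¹ : Module.End F (Fin (2 * m + 1) → F)) x := ⟨_, rfl⟩
    have hx : x = y - A y := by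
      have h1 : (1 : Module.End F (Fin (2 * m + 1) → F)) = (1 - A) * ↑u⁻¹ := by rw [← hu, Units.mul_inv]
      have h3 := LinearMap.congr_fun h1 x
      rwa [Module.End.mul_apply, ← hy] at h3
    have hRx : R x = y + A y := by rw [hR, Module.End.mul_apply, ← hy]; rfl
    rw [hRx, hx]
    show chainBil F m (y + A y) (y + A y) = chainBil F m (y - A y) (y - A y)
    simp only [map_add, map_sub, LinearMap.add_apply, LinearMap.sub_apply]
    have hs := chainBil_shift (F := F) y y
    rw [← hA] at hs
    linear_combination 2 * hs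
  let r := mkOrth (ndPolar_chainForm h2 m) R hQ
  have hr : endo (chainForm F m) r = R := rfl
  have hcA : Commute ((2 : F) • A) ↑u⁻¹ := hAu.smul_left (2 : F)
  refine ⟨r, ⟨2 * m + 1, endo_injective ?_⟩, ?_⟩
  · rw [map_pow, map_one, hr]
    haveI : CharP (Module.End F (Fin (2 * m + 1) → F)) p :=
      charP_of_injective_algebraMap (algebraMap F _).injective p
    have h := sub_pow_char_pow_of_commute (p := p) (n := 2 * m + 1) (Commute.one_right R)
    have hle : 2 * m + 1 ≤ p ^ (2 * m + 1) :=
      (Nat.lt_pow_self (Nat.Prime.one_lt Fact.out)).le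
    rw [one_pow, hsub, hcA.mul_pow, smul_pow, pow_eq_zero_of_le hle hAn, smul_zero, zero_mul] at h
    exact sub_eq_zero.1 h.symm
  · rw [hr, hsub, hcA.mul_pow, smul_pow]
    intro h
    have h0 : (2 : F) ^ (2 * m) • A ^ (2 * m) = 0 :=
      ((u⁻¹).isUnit.pow (2 * m)).mul_left_eq_zero.1 h
    have h' := congrFun (LinearMap.congr_fun h0 (Pi.single 0 1)) (Fin.last (2 * m))
    rw [LinearMap.smul_apply, Pi.smul_apply, hA, shift_pow_apply, dif_neg (by simp), Pi.single_apply,
      if_pos (Fin.ext (by simp))] at h'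
    simp [h2] at h'

end unipotent

end CfsgLib.Spectrum.NineOdd
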